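import Groth.Agent.L26.Poincare.Split
import Groth.Agent.L26.AV.Image
import Groth.Agent.L26.AV.HomFin
import Groth.Agent.L26.AV.Degree
import Groth.Agent.L25.Actions
import Groth.Agent.L26.AV.FrobIsogeny
import Groth.Agent.L25.Homogeneous

/-!
# Poincaré complete reducibility
-/

set_option autoImplicit false
set_option linter.style.haveILetI false
set_option linter.unusedSectionVars false
set_option backward.isDefEq.respectTransparency false

universe u

open CategoryTheory CategoryTheory.Limits MonoidalCategory CartesianMonoidalCategory AlgebraicGeometry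
open scoped MonObj

noncomputable section

namespace Groth.Agent.Poincare.Reducibility

open Groth.Agent.AV Orth

attribute [local instance] Groth.L08.Cube.clMonoid InterPic.picLaw

variable {k : Type u} [Field k]

/-- A subgroup of a commutative group is commutative. -/
theorem isCommMonObj_of_mono {A G : Over (Spec (CommRingCat.of k))} [GrpObj A] [IsCommMonObj A]
    [GrpObj G] (j : G ⟶ A) [IsMonHom j] [Mono j] : IsCommMonObj G := ⟨by
  rw [← cancel_mono j, Category.assoc, IsMonHom.mul_hom, ← Category.assoc,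
    ← BraidedCategory.braiding_naturality, Category.assoc, IsCommMonObj.mul_comm]⟩

/-- The product of two homomorphisms into a commutative group is a homomorphism. -/
theorem isMonHom_mul {X A : Over (Spec (CommRingCat.of k))} [GrpObj X] [IsCommMonObj X] [GrpObj A] [IsCommMonObj A]
    (f g : X ⟶ A) [IsMonHom f] [IsMonHom g] : IsMonHom (f * g) := by
  have h := EndAV.Hom.isMonHom_toHom (EndAV.Hom.of f + EndAV.Hom.of g)
  rwa [EndAV.Hom.toHom_add, EndAV.Hom.toHom_of, EndAV.Hom.toHom_of] at h

/-- A homomorphism killing the points killed by a faithfully flat homomorphism factors through it. -/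
theorem exists_desc_of_kills {P A B : Over (Spec (CommRingCat.of k))} [GrpObj P] [GrpObj A] [GrpObj B]
    (m : P ⟶ A) [IsMonHom m] [Flat m.left] [Surjective m.left] [QuasiCompact m.left] (ψ : P ⟶ B) [IsMonHom ψ]
    (h : ∀ (T : Over (Spec (CommRingCat.of k))) (x : T ⟶ P), x ≫ m = 1 → x ≫ ψ = 1) :
    ∃ r : A ⟶ B, m ≫ r = ψ ∧ η[A] ≫ r = η[B] := by
  haveI : Epi m := Over.epi_of_epi_left m
  let r : A.left ⟶ B.left := EffectiveEpi.desc m.left ψ.left fun {W} g₁ g₂ hg => by
    let T : Over (Spec (CommRingCat.of k)) := Over.mk (g₁ ≫ P.hom)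
    have hg₂ : g₂ ≫ P.hom = g₁ ≫ P.hom := by rw [← Over.w m, reassoc_of% hg]
    let a : T ⟶ P := Over.homMk g₁ rfl
    let b : T ⟶ P := Over.homMk g₂ hg₂
    have hab : a ≫ m = b ≫ m := Over.OverMorphism.ext hg
    have h' := h T (a * b⁻¹) (by rw [MonObj.mul_comp, GrpObj.inv_comp, hab, mul_inv_cancel])
    rw [MonObj.mul_comp, GrpObj.inv_comp, mul_inv_eq_one] at h'
    exact congrArg CommaMorphism.left h'
  have hr : m.left ≫ r = ψ.left := EffectiveEpi.fac _ _ _
  let g : A ⟶ B := Over.homMk r (by rw [← cancel_epi m.left, reassoc_of% hr, Over.w, Over.w])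
  have hg : m ≫ g = ψ := Over.OverMorphism.ext hr
  refine ⟨g, hg, ?_⟩
  rw [← IsMonHom.one_hom (f := m), Category.assoc, hg, IsMonHom.one_hom]

/-- An isogeny has an inverse up to multiplication. -/
theorem exists_inverse {X Y : Over (Spec (CommRingCat.of k))}
    [GrpObj X] [IsCommMonObj X] [IsProper X.hom] [GeometricallyIntegral X.hom]
    [GrpObj Y] [IsCommMonObj Y] [IsProper Y.hom] [GeometricallyIntegral Y.hom]
    (f : X ⟶ Y) [IsMonHom f] [IsFinite f.left] [Surjective f.left] :
    ∃ (g : Y ⟶ X) (n : ℕ), IsMonHom g ∧ 1 ≤ n ∧ f ≫ g = 𝟙 X ^ n ∧ g ≫ f = 𝟙 Y ^ n := by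
  haveI : IsIntegral Y.left := GeometricallyIntegral.isIntegral_of_subsingleton Y.hom
  haveI : Flat f.left := Groth.L08.FlatHom.flat_of_surjective X Y f
  haveI : LocallyOfFinitePresentation X.hom := LocallyOfFinitePresentation.iff_locallyOfFiniteType.2 inferInstance
  haveI : LocallyOfFinitePresentation Y.hom := LocallyOfFinitePresentation.iff_locallyOfFiniteType.2 inferInstance
  haveI : GeometricallyConnected X.hom := Isogeny.geometricallyConnected X.hom
  haveI : GeometricallyConnected Y.hom := Isogeny.geometricallyConnected Y.hom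
  let y₀ := η[Y].left (IsLocalRing.closedPoint k)
  let n := Scheme.Hom.finrank f.left y₀
  have hkill : ∀ (T : Over (Spec (CommRingCat.of k))) (x : T ⟶ X), x ≫ f = 1 → x ^ n = 1 := fun T x hx =>
    Groth.L00.IsogDual.pow_eq_one_of_comp f n
      (fun s => congrArg (fun t => Scheme.Hom.finrank f.left (η[Y].left t))
        (Subsingleton.elim (α := PrimeSpectrum k) s (IsLocalRing.closedPoint k))) x hx
  obtain ⟨g, hg, h1, h2⟩ := FrobIsogeny.exists_factor_of_kills f n hkill
  exact ⟨g, n, hg, (Scheme.Hom.one_le_finrank_iff_surjective (f := f.left)).2 inferInstance y₀, h1, h2⟩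

variable {A : Over (Spec (CommRingCat.of k))} [GrpObj A] [IsCommMonObj A] [IsProper A.hom] [GeometricallyIntegral A.hom]

/-- A power of a nontrivial homomorphism into an abelian variety is nontrivial. -/
theorem eq_one_of_pow {X : Over (Spec (CommRingCat.of k))}
    [GrpObj X] [IsCommMonObj X] [IsProper X.hom] [GeometricallyIntegral X.hom] (f : X ⟶ A) [IsMonHom f]
    (n : ℕ) (hn : 1 ≤ n) (h : f ^ n = 1) : f = 1 := by
  obtain ⟨_, _, _, _⟩ := Degree.isogeny_pow (A := X) hn
  haveI : Epi (𝟙 X ^ n) := Over.epi_of_epi_left _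
  rw [← cancel_epi (𝟙 X ^ n), MonObj.pow_comp, Category.id_comp, h, MonObj.comp_one]

variable (L : A.left.Modules) (hamp : CohB1.IsAmple L) {B : Over (Spec (CommRingCat.of k))}
  [GrpObj B] [IsCommMonObj B] [IsProper B.hom] [GeometricallyIntegral B.hom] (i : B ⟶ A) [IsMonHom i] [IsClosedImmersion i.left]

variable (hL : PicF.IsInvertible L)
  (hfin : Set.Finite {b : Isogeny.geomPt k (AlgebraicClosure k) ⟶ B | pair L hL i (b ≫ i) = 0})

include hfin in
/-- The projection onto an abelian subvariety along its orthogonal. -/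
theorem exists_proj_of_finite : ∃ (q : A ⟶ B) (N : ℕ), IsMonHom q ∧ 1 ≤ N ∧ i ≫ q = 𝟙 B ^ N ∧
    pair L hL i (𝟙 A ^ N * (q ≫ i)⁻¹) = 0 := by
  obtain ⟨G, gG, j, hjm, hjc, hj, huniv⟩ := exists_orth L hL i
  letI := gG
  haveI := hjm
  haveI := hjc
  haveI : IsProper G.hom := by rw [← Over.w j]; infer_instance
  haveI : Mono i := Groth.L08.mono_of_closedImmersion i
  haveI : Mono j := Groth.L08.mono_of_closedImmersion j
  haveI : IsCommMonObj G := isCommMonObj_of_mono j
  haveI := Split.surjective_sum_of_finite L i hL hfin j (fun T _ y hy => huniv T y hy)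
  haveI := Split.isFinite_inter_of_finite L i hL hfin j hj
  -- the intersection is killed by its rank
  let H := pullback i j
  let c : H ⟶ A := pullback.fst i j ≫ i
  haveI : Mono c := inferInstance
  have hlift : ∀ {T : Over (Spec (CommRingCat.of k))} (b : T ⟶ B) (z : T ⟶ G), b ≫ i = z ≫ j →
      ∃ x : T ⟶ H, x ≫ pullback.fst i j = b ∧ x ≫ pullback.snd i j = z := fun b z h =>
    ⟨pullback.lift b z h, pullback.lift_fst _ _ _, pullback.lift_snd _ _ _⟩
  have hlift' : ∀ {T : Over (Spec (CommRingCat.of k))} (b : T ⟶ B) (z : T ⟶ G) (a : T ⟶ A), b ≫ i = a → z ≫ j = a →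
      ∃ x : T ⟶ H, x ≫ c = a := fun b z a h1 h2 => by
    obtain ⟨x, hx, -⟩ := hlift b z (h1.trans h2.symm)
    exact ⟨x, by rw [reassoc_of% hx, h1]⟩
  have hc' : pullback.snd i j ≫ j = c := pullback.condition.symm
  obtain ⟨gH, hcm⟩ := Groth.L08.exists_grpObj_of_mono c
    (hlift' η[B] η[G] η[A] (IsMonHom.one_hom i) (IsMonHom.one_hom j))
    (hlift' ((fst H H ≫ pullback.fst i j) * (snd H H ≫ pullback.fst i j))
      ((fst H H ≫ pullback.snd i j) * (snd H H ≫ pullback.snd i j)) _
      (by rw [MonObj.mul_comp, Category.assoc, Category.assoc])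
      (by rw [MonObj.mul_comp, Category.assoc, Category.assoc, hc']))
    (hlift' (pullback.fst i j)⁻¹ (pullback.snd i j)⁻¹ _
      (by rw [GrpObj.inv_comp]) (by rw [GrpObj.inv_comp, hc']))
  letI := gH
  haveI : IsCommMonObj H := isCommMonObj_of_mono c
  haveI : LocallyOfFinitePresentation H.hom := LocallyOfFinitePresentation.iff_locallyOfFiniteType.2 inferInstance
  let s₀ : Spec (CommRingCat.of k) := IsLocalRing.closedPoint k
  let N := Scheme.Hom.finrank H.hom s₀
  have hN : 1 ≤ N := by
    haveI : Surjective H.hom :=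
      ⟨fun s => ⟨η[H].left (IsLocalRing.closedPoint k), Subsingleton.elim (α := PrimeSpectrum k) _ _⟩⟩
    exact (Scheme.Hom.one_le_finrank_iff_surjective (f := H.hom)).2 inferInstance s₀
  have hH : (𝟙 H : H ⟶ H) ^ N = 1 := Groth.L08.Deligne.pow_eq_one H N fun s =>
    congrArg (Scheme.Hom.finrank H.hom) (Subsingleton.elim (α := PrimeSpectrum k) s s₀)
  have hfst : ∀ {T : Over (Spec (CommRingCat.of k))} (b : T ⟶ B) (z : T ⟶ G), (b ≫ i) * (z ≫ j) = 1 →
      b ^ N = 1 ∧ z ^ N = 1 := by
    intro T b z h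
    obtain ⟨x, hxb, hxz⟩ := hlift b z⁻¹ (by rw [GrpObj.inv_comp]; exact eq_inv_of_mul_eq_one_left h)
    have hx : (x ≫ c) ^ N = 1 := by
      rw [← MonObj.pow_comp, ← Category.comp_id x, ← MonObj.comp_pow, hH, MonObj.comp_one, MonObj.one_comp]
    constructor
    · rw [← cancel_mono i, MonObj.pow_comp, MonObj.one_comp, ← hxb, Category.assoc]
      exact hx
    · rw [← inv_inv z, inv_pow, inv_eq_one, ← cancel_mono j, MonObj.pow_comp, MonObj.one_comp, ← hxz,
        Category.assoc, hc']
      exact hx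
  -- descent
  haveI : IsProper (fst B G).left :=
    MorphismProperty.of_isPullback (Groth.L08.Cube.isPullback_prod B G).flip ‹IsProper G.hom›
  haveI : IsProper (B ⊗ G).hom := by rw [← Over.w (fst B G)]; infer_instance
  let m := (fst B G ≫ i) * (snd B G ≫ j)
  haveI : IsMonHom m := isMonHom_mul _ _
  haveI : IsIntegral A.left := GeometricallyIntegral.isIntegral_of_subsingleton A.hom
  haveI : Flat m.left := Groth.L08.FlatHom.flat_of_surjective (B ⊗ G) A m
  haveI : IsProper (m.left ≫ A.hom) := by rw [Over.w]; infer_instance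
  haveI : IsProper m.left := IsProper.of_comp m.left A.hom
  haveI : Epi m := Over.epi_of_epi_left m
  haveI : IsMonHom (𝟙 B ^ N) := Isogeny.isMonHom_pow N
  haveI : IsMonHom (𝟙 G ^ N) := Isogeny.isMonHom_pow N
  have hsplit : ∀ {T : Over (Spec (CommRingCat.of k))} (x : T ⟶ B ⊗ G),
      x ≫ m = (x ≫ fst B G ≫ i) * (x ≫ snd B G ≫ j) := fun x => MonObj.comp_mul _ _ _
  obtain ⟨q, hq, hq1⟩ := exists_desc_of_kills m (fst B G ≫ 𝟙 B ^ N) fun T x hx => by
    rw [MonObj.comp_pow, MonObj.comp_pow, Category.comp_id]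
    exact (hfst (x ≫ fst B G) (x ≫ snd B G) (by rw [Category.assoc, Category.assoc, ← hsplit, hx])).1
  obtain ⟨r, hr, -⟩ := exists_desc_of_kills m (snd B G ≫ 𝟙 G ^ N) fun T x hx => by
    rw [MonObj.comp_pow, MonObj.comp_pow, Category.comp_id]
    exact (hfst (x ≫ fst B G) (x ≫ snd B G) (by rw [Category.assoc, Category.assoc, ← hsplit, hx])).2
  have he : 𝟙 A ^ N * (q ≫ i)⁻¹ = r ≫ j := by
    rw [← cancel_epi m, MonObj.comp_mul, MonObj.comp_pow, Category.comp_id, GrpObj.comp_inv, reassoc_of% hq,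
      reassoc_of% hr, MonObj.pow_comp, MonObj.pow_comp, Category.id_comp, Category.id_comp,
      MonObj.comp_pow, MonObj.comp_pow, mul_inv_eq_iff_eq_mul, _root_.mul_comm, ← _root_.mul_pow]
  refine ⟨q, N, Groth.Agent.AV.isMonHom_of_one q hq1, hN, ?_, ?_⟩
  · have hi : i = lift (𝟙 B) 1 ≫ m := by
      rw [hsplit, lift_fst_assoc, lift_snd_assoc, Category.id_comp, MonObj.one_comp, _root_.mul_one]
    rw [hi, Category.assoc, hq, lift_fst_assoc, Category.id_comp]
  · rw [he, ← pb_pair, hj, map_zero]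

include hamp in
/-- The projection onto an abelian subvariety along its orthogonal. -/
theorem exists_proj : ∃ (q : A ⟶ B) (N : ℕ), IsMonHom q ∧ 1 ≤ N ∧ i ≫ q = 𝟙 B ^ N ∧
    pair L hamp.1 i (𝟙 A ^ N * (q ≫ i)⁻¹) = 0 :=
  exists_proj_of_finite L i hamp.1 (Split.finite_orth_points L hamp i _)

include hfin in
/-- An abelian subvariety has a complement along its orthogonal. -/
theorem exists_complement_of_finite :
    ∃ (C : Over (Spec (CommRingCat.of k))) (_ : GrpObj C) (j : C ⟶ A), IsProper C.hom ∧ GeometricallyIntegral C.hom ∧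
      IsMonHom j ∧ IsClosedImmersion j.left ∧
      Surjective ((fst B C ≫ i) * (snd B C ≫ j)).left ∧ IsFinite ((fst B C ≫ i) * (snd B C ≫ j)).left ∧
      ∃ N : ℕ, 1 ≤ N ∧ pair L hL i (j ^ N) = 0 := by
  obtain ⟨q, N, hqm, hN, hiq, hpair⟩ := exists_proj_of_finite L i hL hfin
  haveI := hqm
  let e := 𝟙 A ^ N * (q ≫ i)⁻¹
  haveI : IsMonHom (𝟙 A ^ N) := Isogeny.isMonHom_pow N
  haveI : IsMonHom (q ≫ i)⁻¹ := by
    have h := EndAV.Hom.isMonHom_toHom (-EndAV.Hom.of (q ≫ i))
    rwa [EndAV.Hom.toHom_neg, EndAV.Hom.toHom_of] at h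
  haveI : IsMonHom e := isMonHom_mul _ _
  obtain ⟨C, gC, j, p, hjm, hjc, hCp, hCg, hps, hpj, hpm⟩ := exists_image e
  letI := gC
  haveI := hjm
  haveI := hjc
  haveI := hCp
  haveI := hCg
  haveI := hps
  haveI := hpm
  haveI : Mono j := Groth.L08.mono_of_closedImmersion j
  haveI : IsCommMonObj C := isCommMonObj_of_mono j
  haveI : IsIntegral A.left := GeometricallyIntegral.isIntegral_of_subsingleton A.hom
  haveI : IsIntegral C.left := GeometricallyIntegral.isIntegral_of_subsingleton C.hom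
  haveI : IsProper (fst B C).left :=
    MorphismProperty.of_isPullback (Groth.L08.Cube.isPullback_prod B C).flip ‹IsProper C.hom›
  haveI : IsProper (B ⊗ C).hom := by rw [← Over.w (fst B C)]; infer_instance
  let n := (fst B C ≫ i) * (snd B C ≫ j)
  haveI : IsMonHom n := isMonHom_mul _ _
  refine ⟨C, gC, j, hCp, hCg, hjm, hjc, ?_, ?_, N, hN, ?_⟩
  · have h : lift q p ≫ n = 𝟙 A ^ N := by
      rw [MonObj.comp_mul, lift_fst_assoc, lift_snd_assoc, hpj]
      show q ≫ i * (𝟙 A ^ N * (q ≫ i)⁻¹) = _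
      rw [mul_left_comm, mul_inv_cancel, _root_.mul_one]
    obtain ⟨_, _, hs, _⟩ := Degree.isogeny_pow (A := A) hN
    haveI : Surjective ((lift q p).left ≫ n.left) := by rw [← Over.comp_left, h]; exact hs
    exact Surjective.of_comp (lift q p).left n.left
  · haveI : IsProper (p.left ≫ C.hom) := by rw [Over.w]; infer_instance
    haveI : IsProper p.left := IsProper.of_comp p.left C.hom
    haveI : Flat p.left := Groth.L08.FlatHom.flat_of_surjective A C p
    haveI : Epi p := Over.epi_of_epi_left p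
    have hjq : j ≫ q = 1 := by
      rw [← cancel_epi p, reassoc_of% hpj, MonObj.comp_one, MonObj.mul_comp, MonObj.pow_comp, Category.id_comp,
        GrpObj.inv_comp, Category.assoc, hiq, MonObj.comp_pow, Category.comp_id, mul_inv_cancel]
    have h1 : n ≫ q = fst B C ≫ 𝟙 B ^ N := by
      rw [MonObj.mul_comp, Category.assoc, Category.assoc, hiq, hjq, MonObj.comp_one, _root_.mul_one]
    have h2 : n ≫ e = (snd B C ≫ j) ≫ 𝟙 A ^ N := by
      rw [MonObj.comp_mul, GrpObj.comp_inv, reassoc_of% h1, MonObj.pow_comp, Category.id_comp,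
        MonObj.comp_pow, MonObj.comp_pow, MonObj.comp_pow, Category.comp_id, Category.comp_id, mul_inv_eq_iff_eq_mul,
        _root_.mul_comm, ← _root_.mul_pow]
    haveI : IsMonHom (𝟙 B ^ N) := Isogeny.isMonHom_pow N
    let v := (𝟙 B ^ N) ▷ C ≫ B ◁ (j ≫ 𝟙 A ^ N)
    have hv : n ≫ lift q e = v := by
      refine CartesianMonoidalCategory.hom_ext _ _ ?_ ?_
      · rw [Category.assoc, lift_fst, h1]
        simp only [v, Category.assoc, whiskerLeft_fst, whiskerRight_fst]
      · rw [Category.assoc, lift_snd, h2]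
        simp only [v, Category.assoc, whiskerLeft_snd, whiskerRight_snd_assoc]
    obtain ⟨hfA, _, _, _⟩ := Degree.isogeny_pow (A := A) hN
    obtain ⟨hfB, _, _, _⟩ := Degree.isogeny_pow (A := B) hN
    haveI := hfA
    haveI : IsFinite (j ≫ 𝟙 A ^ N).left := by rw [Over.comp_left]; infer_instance
    haveI : IsFinite ((𝟙 B ^ N) ▷ C).left :=
      MorphismProperty.of_isPullback (Groth.L25.Actions.isPullback_whiskerRight_left (𝟙 B ^ N) C).flip hfB
    haveI : IsFinite (B ◁ (j ≫ 𝟙 A ^ N)).left :=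
      MorphismProperty.of_isPullback (Groth.L08.Cube.isPullback_whiskerLeft B (j ≫ 𝟙 A ^ N)).flip inferInstance
    haveI : IsFinite v.left := by rw [Over.comp_left]; infer_instance
    haveI : IsFinite (n.left ≫ (lift q e).left) := by rw [← Over.comp_left, hv]; infer_instance
    haveI : IsSeparated (fst B A).left :=
      MorphismProperty.of_isPullback (Groth.L08.Cube.isPullback_prod B A).flip (inferInstance : IsSeparated A.hom)
    haveI : IsSeparated (B ⊗ A).hom := by rw [← Over.w (fst B A)]; infer_instance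
    haveI : IsSeparated ((lift q e).left ≫ (B ⊗ A).hom) := by rw [Over.w]; infer_instance
    haveI : IsSeparated (lift q e).left := IsSeparated.of_comp _ (B ⊗ A).hom
    exact IsFinite.of_comp n.left (lift q e).left
  · haveI : IsProper (p.left ≫ C.hom) := by rw [Over.w]; infer_instance
    haveI : IsProper p.left := IsProper.of_comp p.left C.hom
    haveI : Flat p.left := Groth.L08.FlatHom.flat_of_surjective A C p
    haveI : Epi p := Over.epi_of_epi_left p
    have hjq : j ≫ q = 1 := by
      rw [← cancel_epi p, reassoc_of% hpj, MonObj.comp_one, MonObj.mul_comp, MonObj.pow_comp, Category.id_comp,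
        GrpObj.inv_comp, Category.assoc, hiq, MonObj.comp_pow, Category.comp_id, mul_inv_cancel]
    have hje : j ≫ e = j ^ N := by
      rw [MonObj.comp_mul, MonObj.comp_pow, Category.comp_id, GrpObj.comp_inv, reassoc_of% hjq, MonObj.one_comp,
        inv_one, _root_.mul_one]
    rw [← hje, ← pb_pair, hpair, map_zero]

/-- An abelian subvariety has a complement. -/
theorem exists_complement {B : Over (Spec (CommRingCat.of k))}
    [GrpObj B] [IsCommMonObj B] [IsProper B.hom] [GeometricallyIntegral B.hom] (i : B ⟶ A) [IsMonHom i]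
    [IsClosedImmersion i.left] :
    ∃ (C : Over (Spec (CommRingCat.of k))) (_ : GrpObj C) (j : C ⟶ A), IsProper C.hom ∧ GeometricallyIntegral C.hom ∧
      IsMonHom j ∧ IsClosedImmersion j.left ∧
      Surjective ((fst B C ≫ i) * (snd B C ≫ j)).left ∧ IsFinite ((fst B C ≫ i) * (snd B C ≫ j)).left := by
  obtain ⟨L, hamp⟩ := Degree.exists_isAmple A
  obtain ⟨C, gC, j, h1, h2, h3, h4, h5, h6, -⟩ :=
    exists_complement_of_finite L i hamp.1 (Split.finite_orth_points L hamp i _)
  exact ⟨C, gC, j, h1, h2, h3, h4, h5, h6⟩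

end Groth.Agent.Poincare.Reducibility
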