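import Groth.Agent.L26.Poincare.RosatiPos
import Groth.Agent.L08.Cube.NP.AlgEquiv

/-!
# Classes algebraically equivalent to zero pair to zero
-/

set_option autoImplicit false
set_option linter.style.haveILetI false
set_option linter.unusedSectionVars false
set_option backward.isDefEq.respectTransparency false

universe u

open CategoryTheory CategoryTheory.Limits MonoidalCategory CartesianMonoidalCategory AlgebraicGeometry
open scoped MonObj

noncomputable section

namespace Groth.Agent.Poincare.RosatiAlg

open Groth.Agent.AV Orth DegreeForm Rosati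

attribute [local instance] Groth.L08.Cube.clMonoid InterPic.picLaw

variable {k : Type u} [Field k] [IsAlgClosed k] {A : Over (Spec (CommRingCat.of k))}
  [GrpObj A] [IsCommMonObj A] [IsProper A.hom] [GeometricallyIntegral A.hom]

theorem bil_eq_zero_of_algEquiv (N : A.left.Modules) (hN : PicF.IsInvertible N) (h : Pic13.IsAlgEquivZero k A.left N)
    {W : Over (Spec (CommRingCat.of k))} (f g : W ⟶ A) : bil N hN f g = 0 := by
  haveI : Smooth A.hom :=
    haveI : GrpObj (Over.mk A.hom) := inferInstanceAs (GrpObj A)
    smooth_of_grpObj A.hom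
  haveI := Groth.L08.Cube.NP.smooth_tensor A A
  have hs := Groth.L08.Cube.NP.splits_of_isAlgEquivZero A A _
    (Groth.L08.Cube.NP.isAlgEquivZero_pullback (fst A A * snd A A) N h) 1 1
  have h2 := congrArg (PicF.pullCl (lift f g).left) hs
  change PicF.pullCl _ (PicF.pullCl (fst A A * snd A A).left (PicF.cl N)) =
    PicF.pullCl (lift f g).left (PicF.pullCl _ (PicF.pullCl _ (PicF.pullCl (fst A A * snd A A).left (PicF.cl N))) *
      PicF.pullCl _ (PicF.pullCl _ (PicF.pullCl (fst A A * snd A A).left (PicF.cl N)))) at h2
  rw [Groth.L08.Cube.pullCl_mul, ← PicLoc.pullCl_comp, ← PicLoc.pullCl_comp, ← PicLoc.pullCl_comp,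
    ← PicLoc.pullCl_comp, ← PicLoc.pullCl_comp, ← PicLoc.pullCl_comp, ← PicLoc.pullCl_comp] at h2
  simp only [← Over.comp_left] at h2
  simp only [MonObj.comp_mul, Category.assoc, lift_fst, lift_snd, lift_fst_assoc, lift_snd_assoc,
    Category.comp_id, MonObj.comp_one, _root_.mul_one, _root_.one_mul] at h2
  have h3 : F N hN (f * g) = F N hN f + F N hN g := ext_val h2
  show F N hN (f * g) - F N hN f - F N hN g = 0
  rw [h3]
  abel

end Groth.Agent.Poincare.RosatiAlg
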