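import Groth.Agent.L26.Poincare.Rosati
import Groth.Agent.L26.AbDual.Bilinear
import Groth.Agent.L26.KL.Basic

/-!
# The Poincaré class as a pairing with values in invertible classes
-/

set_option autoImplicit false
set_option linter.style.haveILetI false
set_option linter.unusedSectionVars false
set_option backward.isDefEq.respectTransparency false

universe u

open CategoryTheory CategoryTheory.Limits MonoidalCategory CartesianMonoidalCategory AlgebraicGeometry
open scoped MonObj

noncomputable section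

namespace Groth.Agent.Poincare.Pairing

open Groth.Agent.AV Groth.Agent.AbDualLib DegreeForm Rosati

attribute [local instance] Groth.L08.Cube.clMonoid InterPic.picLaw

variable {k : Type u} [Field k] {A At : Over (Spec (CommRingCat.of k))}
  [GrpObj A] [IsCommMonObj A] [IsProper A.hom] [GeometricallyIntegral A.hom]
  [GrpObj At] [IsCommMonObj At] [IsProper At.hom] [GeometricallyIntegral At.hom]
  {φ : ∀ T : Over (Spec (CommRingCat.of k)), PicF.Cl (PicF.XT A.hom T) → (T ⟶ At)}
  (hA : AbDual.IsDualAV Scheme.fppfPrecoverage A At φ)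
  {ξ : PicF.Cl (PicF.XT A.hom At)} (hξ : AbDual.IsPoincareCl A At φ ξ)

/-- The value of the Poincaré class on a pair of points. -/
def xi {T : Over (Spec (CommRingCat.of k))} (a : T ⟶ A) (b : T ⟶ At) : Additive (PicLoc.PicSet T.left) :=
  Additive.ofMul (α := PicLoc.PicSet T.left)
    ⟨AbDualLib.bil ξ a b, PicLoc.isInvertibleCl_pullCl _ (isInvertibleCl_of_isPicZeroCl hξ.1)⟩

theorem xi_val {T : Over (Spec (CommRingCat.of k))} (a : T ⟶ A) (b : T ⟶ At) :
    (xi hξ a b).toMul.1 = AbDualLib.bil ξ a b := rfl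

theorem pb_xi {T T' : Over (Spec (CommRingCat.of k))} (h : T' ⟶ T) (a : T ⟶ A) (b : T ⟶ At) :
    Orth.pb h (xi hξ a b) = xi hξ (h ≫ a) (h ≫ b) := ext_val (pullCl_bil ξ h a b)

include hA in
/-- A morphism to the dual is determined by its pairing with the generic point. -/
theorem hom_ext_xi {T : Over (Spec (CommRingCat.of k))} (b b' : T ⟶ At)
    (h : xi hξ (fst A T) (snd A T ≫ b) = xi hξ (fst A T) (snd A T ≫ b')) : b = b' := by
  have hp : ∀ c : T ⟶ At, φ T (PicF.pullCl (PicF.XTmap A.hom c) ξ) = c := fun c => by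
    rw [hA.relPic.natural At T c ξ hξ.1, hξ.2.1, Category.comp_id]
  have h' := congrArg (fun z => (Additive.toMul z).1) h
  change AbDualLib.bil ξ (fst A T) (snd A T ≫ b) = AbDualLib.bil ξ (fst A T) (snd A T ≫ b') at h'
  rw [← bil_whiskerLeft, ← bil_whiskerLeft] at h'
  rw [← hp b, h', hp b']

include hA in
theorem xi_mul_right {T : Over (Spec (CommRingCat.of k))} (a : T ⟶ A) (b b' : T ⟶ At) :
    xi hξ a (b * b') = xi hξ a b + xi hξ a b' := by
  haveI : Smooth A.hom :=
    haveI : GrpObj (Over.mk A.hom) := inferInstanceAs (GrpObj A)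
    smooth_of_grpObj A.hom
  haveI : GeometricallyConnected A.hom := Isogeny.geometricallyConnected A.hom
  exact ext_val (bil_mul_right hA hξ a b b')

variable (M : A.left.Modules) (hM : PicF.IsInvertible M)

/-- The Mumford class of a module. -/
abbrev mumCl : PicF.Cl (A ⊗ A).left := (Orth.bil M hM (fst A A) (snd A A)).toMul.1

theorem pullCl_mumCl {T : Over (Spec (CommRingCat.of k))} (f g : T ⟶ A) :
    PicF.pullCl (lift f g).left (mumCl M hM) = (Orth.bil M hM f g).toMul.1 := by
  rw [← Orth.pb_val, Orth.pb_bil, lift_fst, lift_snd]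

theorem mumCl_rig : PicF.pullCl (PicF.secT A.hom η[A].left (Over.w η[A]) A) (mumCl M hM) = oneCl _ := by
  rw [secT_eq_lift, pullCl_mumCl, ← Hom.one_def, Orth.bil_one_left]
  rfl

theorem isPicZeroCl_mumCl : AbDual.IsPicZeroCl A.hom A (mumCl M hM) := by
  haveI : GeometricallyConnected A.hom := Isogeny.geometricallyConnected A.hom
  refine KLLib.isPicZeroCl_of_slice A A η[A] (Orth.bil M hM (fst A A) (snd A A)).toMul.2 ?_
  rw [XTmap_eq_whiskerLeft, ← Orth.pb_val, Orth.pb_bil, whiskerLeft_fst, whiskerLeft_snd,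
    show snd A (𝟙_ (Over (Spec (CommRingCat.of k)))) ≫ η[A] = 1 from by
      rw [Hom.one_def]; congr 1; exact toUnit_unique _ _, Orth.bil_one_right]
  rfl

variable (φ) in
/-- The homomorphism to the dual attached to a module. -/
abbrev lamOf : A ⟶ At := φ A (mumCl M hM)

include hA in
theorem xi_lamOf {T : Over (Spec (CommRingCat.of k))} (f g : T ⟶ A) :
    xi hξ f (g ≫ lamOf φ M hM) = Orth.bil M hM f g := by
  haveI : Smooth A.hom :=
    haveI : GrpObj (Over.mk A.hom) := inferInstanceAs (GrpObj A)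
    smooth_of_grpObj A.hom
  haveI : GeometricallyConnected A.hom := Isogeny.geometricallyConnected A.hom
  have e : PicF.pullCl (PicF.XTmap A.hom (lamOf φ M hM)) ξ = mumCl M hM := by
    refine eq_of_map_eq hA (isPicZeroCl_XTmap _ _ hξ.1) (isPicZeroCl_mumCl M hM)
      (rig_pullCl _ ξ ((congrArg _ hξ.2.2).trans (pullCl_oneCl _))) (mumCl_rig M hM) ?_
    rw [hA.relPic.natural At A _ ξ hξ.1, hξ.2.1, Category.comp_id]
  refine ext_val ?_
  rw [← pullCl_mumCl, ← e, xi_val, XTmap_eq_whiskerLeft]
  erw [pullCl_left_comp (lift f g) (A ◁ lamOf φ M hM)]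
  rw [lift_whiskerLeft]

/-- The homomorphism of a module in the sense of polarisations is this one. -/
theorem eq_lamOf {lam : A ⟶ At} (h : AgPol.IsLambda A At φ M lam) : lam = lamOf φ M hM := by
  obtain ⟨N, hN, ⟨ψ⟩, hφN⟩ := h
  rw [← hφN]
  refine congrArg (φ A) ?_
  have hc : PicF.IsInvertibleCl (PicF.cl M) := ⟨M, rfl, hM⟩
  have hNc : (PicF.cl N : PicF.Cl (A ⊗ A).left) * PicF.pullCl (fst A A).left (PicF.cl M) * PicF.pullCl (snd A A).left (PicF.cl M) =
      PicF.pullCl μ[A].left (PicF.cl M) := (PicGrp.cl_eq_cl_iff _ _).2 ⟨ψ⟩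
  have h2 := congrArg (fun z => (Additive.toMul z).1) (F_mul M hM (fst A A) (snd A A))
  change PicF.pullCl (fst A A * snd A A).left (PicF.cl M) =
    PicF.pullCl (fst A A).left (PicF.cl M) * PicF.pullCl (snd A A).left (PicF.cl M) * mumCl M hM at h2
  rw [show fst A A * snd A A = μ[A] by rw [show fst A A * snd A A = lift (fst A A) (snd A A) ≫ μ[A] from rfl,
      lift_fst_snd, Category.id_comp], ← hNc] at h2
  refine mulCl_right_cancel (c := PicF.pullCl (fst A A).left (PicF.cl M) * PicF.pullCl (snd A A).left (PicF.cl M))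
    ⟨N, rfl, hN⟩ (Orth.bil M hM (fst A A) (snd A A)).toMul.2
    (isInvertibleCl_mulCl (PicLoc.isInvertibleCl_pullCl _ hc) (PicLoc.isInvertibleCl_pullCl _ hc)) ?_
  show (PicF.cl N : PicF.Cl (A ⊗ A).left) * (_ * _) = _ * _
  rw [← _root_.mul_assoc, h2, _root_.mul_comm]

include hA in
theorem xi_one_right {T : Over (Spec (CommRingCat.of k))} (a : T ⟶ A) : xi hξ a 1 = 0 := by
  haveI : Smooth A.hom :=
    haveI : GrpObj (Over.mk A.hom) := inferInstanceAs (GrpObj A)
    smooth_of_grpObj A.hom
  haveI : GeometricallyConnected A.hom := Isogeny.geometricallyConnected A.hom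
  refine ext_val ?_
  rw [xi_val]
  have hi : PicF.IsInvertibleCl (AbDualLib.bil ξ a (1 : T ⟶ At)) :=
    PicLoc.isInvertibleCl_pullCl _ (isInvertibleCl_of_isPicZeroCl hξ.1)
  have h := bil_mul_right hA hξ a 1 1
  rw [_root_.mul_one] at h
  exact (mulCl_right_cancel ⟨_, rfl, Groth.L18.Ample.isInvertible_structureModule _⟩ hi hi
    ((oneCl_mul _).trans h)).symm

include hA hξ in
theorem isMonHom_lamOf : IsMonHom (lamOf φ M hM) := by
  refine Groth.Agent.AV.isMonHom_of_one _ (hom_ext_xi hA hξ _ _ ?_)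
  haveI : Smooth A.hom :=
    haveI : GrpObj (Over.mk A.hom) := inferInstanceAs (GrpObj A)
    smooth_of_grpObj A.hom
  haveI : GeometricallyConnected A.hom := Isogeny.geometricallyConnected A.hom
  rw [← Category.assoc, xi_lamOf hA hξ M hM, show snd A (𝟙_ (Over (Spec (CommRingCat.of k)))) ≫ η[A] = 1 from by
      rw [Hom.one_def]; congr 1; exact toUnit_unique _ _, Orth.bil_one_right,
    show snd A (𝟙_ (Over (Spec (CommRingCat.of k)))) ≫ η[At] = 1 from by
      rw [Hom.one_def]; congr 1; exact toUnit_unique _ _]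
  exact (xi_one_right hA hξ _).symm
end Groth.Agent.Poincare.Pairing

namespace Groth.Agent.Poincare.Pairing

open Groth.Agent.AV Groth.Agent.AbDualLib DegreeForm Rosati

attribute [local instance] Groth.L08.Cube.clMonoid InterPic.picLaw

theorem xi_pow_right {k : Type u} [Field k] {A At : Over (Spec (CommRingCat.of k))}
    [GrpObj A] [IsCommMonObj A] [IsProper A.hom] [GeometricallyIntegral A.hom]
    [GrpObj At] [IsCommMonObj At] [IsProper At.hom] [GeometricallyIntegral At.hom]
    {φ : ∀ T : Over (Spec (CommRingCat.of k)), PicF.Cl (PicF.XT A.hom T) → (T ⟶ At)}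
    (hA : AbDual.IsDualAV Scheme.fppfPrecoverage A At φ)
    {ξ : PicF.Cl (PicF.XT A.hom At)} (hξ : AbDual.IsPoincareCl A At φ ξ)
    {T : Over (Spec (CommRingCat.of k))} (a : T ⟶ A) (b : T ⟶ At) (n : ℕ) :
    xi hξ a (b ^ n) = n • xi hξ a b := by
  induction n with
  | zero => rw [pow_zero, zero_smul, xi_one_right hA hξ]
  | succ j ih => rw [pow_succ, succ_nsmul, xi_mul_right hA hξ, ih]

end Groth.Agent.Poincare.Pairing
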