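import Groth.Agent.L08.Cube.Triv
import Groth.Agent.L08.Cube.Seesaw
import Groth.Agent.L08.Cube.ThreeMaps
import Groth.Agent.L22.PicGlue.GensIso
import Groth.Agent.L26.AbDual.FunDescent
import Mathlib.LinearAlgebra.LinearIndependent.Basic

/-!
# Invertible modules killed by pullback along a covering with a transitive deck group

They embed in the characters of the group, so there are at most as many as group elements.
-/

set_option autoImplicit false
set_option linter.style.haveILetI false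
set_option linter.unusedSectionVars false
set_option backward.isDefEq.respectTransparency false

universe u

open CategoryTheory CategoryTheory.Limits AlgebraicGeometry TopologicalSpace Opposite

noncomputable section

namespace Groth.Agent.Poincare.PullKernel

open Groth.L18.Frame (rs ro rs_rs rs_self rs_smul ro_ro ro_self ro_mul IsFrame)
open Groth.L08.Cube (Triv)

variable {K : Type u} [Field K] {Q P : Scheme.{u}} (g : Q ⟶ P) (q : Q ⟶ Spec (CommRingCat.of K))

/-- A constant as a function on an open. -/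
def cst (U : Q.Opens) (c : K) : Γ(Q, U) := ro le_top (Coh.toGlobal q c : Γ(Q, ⊤))

theorem cst_mul (U : Q.Opens) (a b : K) : cst q U (a * b) = cst q U a * cst q U b := by
  simp only [cst, map_mul]

theorem cst_one (U : Q.Opens) : cst q U 1 = 1 := by
  simp only [cst, map_one]

theorem appLE_cst {τ : Q ⟶ Q} (hτ : τ ≫ q = q) {U U' : Q.Opens} (h : U' ≤ τ ⁻¹ᵁ U) (c : K) :
    τ.appLE U U' h (cst q U c) = cst q U' c := by
  have h1 : τ.appTop (q.appTop ((Scheme.ΓSpecIso (CommRingCat.of K)).inv c)) =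
      q.appTop ((Scheme.ΓSpecIso (CommRingCat.of K)).inv c) := by
    rw [← CommRingCat.comp_apply, ← Scheme.Hom.comp_appTop, hτ]
  show τ.appLE U U' h ((Q.presheaf.map (homOfLE (le_top : U ≤ ⊤)).op) (Coh.toGlobal q c)) =
    (Q.presheaf.map (homOfLE (le_top : U' ≤ ⊤)).op) (Coh.toGlobal q c)
  conv_lhs => rw [← CommRingCat.comp_apply, Scheme.Hom.map_appLE]
  conv_rhs => rw [show (Coh.toGlobal q c : Γ(Q, ⊤)) = τ.appTop (q.appTop ((Scheme.ΓSpecIso (CommRingCat.of K)).inv c))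
    from h1.symm]
  rw [Scheme.Hom.appLE, CommRingCat.comp_apply]
  rfl

theorem cst_inj {U : Q.Opens} (hU : Nonempty U) {a b : K} (h : cst q U a = cst q U b) : a = b := by
  haveI : Nontrivial Γ(Q, U) := by
    haveI : Nonempty (U : Scheme.{u}) := hU
    infer_instance
  exact ((Q.presheaf.map (homOfLE (le_top : U ≤ ⊤)).op).hom.comp (Coh.toGlobal q)).injective h

variable {g}

theorem preimage_le {τ : Q ⟶ Q} (hτ : τ ≫ g = g) (V : P.Opens) : g ⁻¹ᵁ V ≤ τ ⁻¹ᵁ (g ⁻¹ᵁ V) := by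
  rw [← Scheme.Hom.comp_preimage, hτ]

/-- The character of a trivialised module: the factor by which a deck transformation changes it. -/
theorem exists_chi (hq : Function.Bijective (Coh.toGlobal q)) {L : P.Modules} (hL : PicF.IsInvertible L)
    (t : Triv g L) {τ : Q ⟶ Q} (hτ : τ ≫ g = g) :
    ∃ c : K, ∀ (V : P.Opens) (m : Γ(L, V)),
      τ.appLE (g ⁻¹ᵁ V) (g ⁻¹ᵁ V) (preimage_le hτ V) (t.E V m) = cst q _ c * t.E V m := by
  obtain ⟨v, hv⟩ := Triv.exists_mul hτ.symm hL t (t.comp τ)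
  obtain ⟨c, hc⟩ := hq.2 v
  refine ⟨c, fun V m => ?_⟩
  have h1 : τ.app (g ⁻¹ᵁ V) (t.E V m) = ro le_top v * ro (by rw [← Scheme.Hom.comp_preimage, hτ]) (t.E V m) := hv V m
  show ro (preimage_le hτ V) (τ.app (g ⁻¹ᵁ V) (t.E V m)) = _
  rw [h1, ro_mul, ro_ro, ro_ro, ro_self, cst, hc]

variable [Flat g] [Surjective g] [LocallyOfFinitePresentation g]

theorem mem_fppf : Sieve.ofArrows (fun _ : PUnit.{u+1} => Q) (fun _ => g) ∈ Scheme.fppfTopology P := by
  rw [Sieve.ofArrows]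
  refine Precoverage.generate_mem_toGrothendieck ?_
  rw [Presieve.ofArrows_pUnit, Scheme.fppfPrecoverage, Scheme.singleton_mem_precoverage_iff]
  exact ⟨g.surjective, ⟨inferInstance, inferInstance⟩⟩

theorem app_injective (V : P.Opens) {a b : Γ(P, V)} (h : g.app V a = g.app V b) : a = b :=
  Groth.Agent.AbDualLib.fun_ext V (fun _ : PUnit.{u+1} => Q) (fun _ => g) mem_fppf a b fun _ => h

variable {G : Type u} [CommMonoid G] [Finite G] (τ : G → (Q ⟶ Q)) (hτg : ∀ z, τ z ≫ g = g)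
  (hdesc : ∀ (V : P.Opens) (w : Γ(Q, g ⁻¹ᵁ V)),
    (∀ z, (τ z).appLE (g ⁻¹ᵁ V) (g ⁻¹ᵁ V) (preimage_le (hτg z) V) w = w) →
      ∀ {R : Scheme.{u}} (l l' : R ⟶ Q) (W : R.Opens) (h : W ≤ l ⁻¹ᵁ g ⁻¹ᵁ V) (h' : W ≤ l' ⁻¹ᵁ g ⁻¹ᵁ V),
        l ≫ g = l' ≫ g → l.appLE _ W h w = l'.appLE _ W h' w)

include hdesc in
theorem exists_desc_fun (V : P.Opens) (w : Γ(Q, g ⁻¹ᵁ V))
    (hw : ∀ z, (τ z).appLE (g ⁻¹ᵁ V) (g ⁻¹ᵁ V) (preimage_le (hτg z) V) w = w) :
    ∃ a : Γ(P, V), g.app V a = w := by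
  obtain ⟨a, ha⟩ := Groth.Agent.AbDualLib.exists_fun_desc V (fun _ : PUnit.{u+1} => Q) (fun _ => g) mem_fppf
    (fun _ => w) fun _ _ {R} l l' W h h' e => hdesc V w hw l l' W h h' e
  exact ⟨a, ha PUnit.unit⟩

include hdesc in
/-- Two modules trivialised on the covering with the same characters are isomorphic. -/
theorem nonempty_iso_of_chi {L M : P.Modules} (hL : PicF.IsInvertible L) (hM : PicF.IsInvertible M)
    (t : Triv g L) (s : Triv g M)
    (h : ∀ z, ∃ c : K, IsUnit c ∧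
      (∀ (V : P.Opens) (m : Γ(L, V)), (τ z).appLE (g ⁻¹ᵁ V) (g ⁻¹ᵁ V) (preimage_le (hτg z) V) (t.E V m) = cst q _ c * t.E V m) ∧
      ∀ (V : P.Opens) (m : Γ(M, V)), (τ z).appLE (g ⁻¹ᵁ V) (g ⁻¹ᵁ V) (preimage_le (hτg z) V) (s.E V m) = cst q _ c * s.E V m) :
    Nonempty (L ≅ M) := by
  choose W e hW he using fun x : P => Groth.L18.Frame.exists_frame hL x
  choose W' f hW' hf using fun x : P => Groth.L18.Frame.exists_frame hM x
  let N : P → P.Opens := fun x => W x ⊓ W' x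
  let e' : ∀ x, Γ(L, N x) := fun x => rs L inf_le_left (e x)
  let f' : ∀ x, Γ(M, N x) := fun x => rs M inf_le_right (f x)
  have he' : ∀ x, IsFrame L (N x) (e' x) := fun x => (he x).mono inf_le_left
  have hf' : ∀ x, IsFrame M (N x) (f' x) := fun x => (hf x).mono inf_le_right
  have hu := fun x => t.unit _ _ (he' x)
  have hv := fun x => s.unit _ _ (hf' x)
  have hw : ∀ x, ∀ z, (τ z).appLE (g ⁻¹ᵁ N x) (g ⁻¹ᵁ N x) (preimage_le (hτg z) (N x))
      (t.E _ (e' x) * ↑(hv x).unit⁻¹) = t.E _ (e' x) * ↑(hv x).unit⁻¹ := fun x z => by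
    obtain ⟨c, hc, h1, h2⟩ := h z
    refine (hv x).mul_left_injective ?_
    show _ * s.E _ (f' x) = _ * s.E _ (f' x)
    rw [mul_assoc _ _ (s.E _ (f' x)), IsUnit.val_inv_mul, mul_one]
    have hcu : IsUnit (cst q (g ⁻¹ᵁ N x) c) :=
      (hc.map (Coh.toGlobal q)).map (Q.presheaf.map (homOfLE (le_top : g ⁻¹ᵁ N x ≤ ⊤)).op).hom
    refine hcu.mul_left_injective ?_
    show _ * s.E _ (f' x) * cst q _ c = _ * cst q _ c
    rw [mul_assoc, mul_comm (s.E _ (f' x)), ← h2, ← map_mul, mul_assoc, IsUnit.val_inv_mul, mul_one, h1, mul_comm]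
  choose a ha using fun x => exists_desc_fun τ hτg hdesc (N x) _ (hw x)
  have hau : ∀ x, IsUnit (a x) := fun x => by
    have hinv : ∀ z, (τ z).appLE (g ⁻¹ᵁ N x) (g ⁻¹ᵁ N x) (preimage_le (hτg z) (N x))
        (s.E _ (f' x) * ↑(hu x).unit⁻¹) = s.E _ (f' x) * ↑(hu x).unit⁻¹ := fun z => by
      have hm : s.E _ (f' x) * ↑(hu x).unit⁻¹ * (t.E _ (e' x) * ↑(hv x).unit⁻¹) = 1 := by
        rw [show ∀ a b c d : Γ(Q, g ⁻¹ᵁ N x), a * b * (c * d) = (c * b) * (a * d) from fun _ _ _ _ => by ring,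
          IsUnit.mul_val_inv, IsUnit.mul_val_inv, one_mul]
      exact left_inv_eq_right_inv
        (by
          have := congrArg ((τ z).appLE (g ⁻¹ᵁ N x) (g ⁻¹ᵁ N x) (preimage_le (hτg z) (N x))) hm
          rwa [map_mul, map_one, hw x z] at this)
        (by rw [mul_comm]; exact hm)
    obtain ⟨b, hb⟩ := exists_desc_fun τ hτg hdesc (N x) _ hinv
    refine IsUnit.of_mul_eq_one b (app_injective (g := g) _ ?_)
    rw [map_mul, map_one, ha, hb, show ∀ a b c d : Γ(Q, g ⁻¹ᵁ N x), a * b * (c * d) = (a * d) * (c * b)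
      from fun _ _ _ _ => by ring, IsUnit.mul_val_inv, IsUnit.mul_val_inv, one_mul]
  refine Groth.L22.PicGlue.nonempty_iso_of_gens N (e := e') (e' := fun x => a x • f' x) he'
    (fun x => (hf' x).smul_unit (hau x)) (fun x => ⟨x, hW x, hW' x⟩) ?_
  intro x y V hx hy c hc
  replace hc : c • rs L hx (e' x) = rs L hy (e' y) := hc
  show c • rs M hx (a x • f' x) = rs M hy (a y • f' y)
  have key : ∀ x (hx : V ≤ N x), s.E V (rs M hx (a x • f' x)) = t.E V (rs L hx (e' x)) := fun x hx => by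
    rw [s.nat, t.nat, s.smul, ha, mul_assoc, IsUnit.val_inv_mul, mul_one]
  have e1 := congrArg (t.E V) hc
  rw [t.smul, ← key x hx, ← key y hy, ← s.smul] at e1
  obtain ⟨r, hr⟩ := (hf' x).exists_coeff hx (rs M hy (a y • f' y))
  obtain ⟨r', hr'⟩ := (hf' x).exists_coeff hx (c • rs M hx (a x • f' x))
  rw [← hr, ← hr'] at e1 ⊢
  rw [s.smul, s.smul] at e1
  exact congrArg (fun z : Γ(P, V) => z • rs M hx (f' x))
    (app_injective (g := g) V ((s.unit V _ ((hf' x).mono hx)).mul_left_injective e1))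

variable [IsIntegral Q] (hq : Function.Bijective (Coh.toGlobal q)) (hτq : ∀ z, τ z ≫ q = q)
  (hτ1 : τ 1 = 𝟙 Q) (hτmul : ∀ z z', τ (z * z') = τ z ≫ τ z')

include hdesc hq hτq hτ1 hτmul in
/-- The kernel of the pullback has at most as many elements as the deck group. -/
theorem card_le (S : Finset (PicF.Cl P))
    (hS : ∀ c ∈ S, PicF.IsInvertibleCl c ∧ PicF.pullCl g c = PicF.cl (Coh.structureModule Q)) :
    S.card ≤ Nat.card G := by
  classical
  haveI := Fintype.ofFinite G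
  choose L hLc hL using fun c : S => (hS c.1 c.2).1
  have hθ : ∀ c : S, Nonempty ((Scheme.Modules.pullback g).obj (L c) ≅ Coh.structureModule Q) := fun c =>
    (PicGrp.cl_eq_cl_iff _ _).1 (by rw [← (hS c.1 c.2).2, ← hLc c]; rfl)
  let t : ∀ c : S, Triv g (L c) := fun c => Triv.ofIso g (L c) (hθ c).some
  choose χ hχ using fun (c : S) (z : G) => exists_chi q hq (hL c) (t c) (hτg z)
  obtain ⟨x₀⟩ : Nonempty Q := inferInstance
  have huniq : ∀ (c : S) (a b : K),
      (∀ (V : P.Opens) (m : Γ(L c, V)), cst q (g ⁻¹ᵁ V) a * (t c).E V m = cst q _ b * (t c).E V m) → a = b := by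
    intro c a b h
    obtain ⟨W, e, hW, he⟩ := Groth.L18.Frame.exists_frame (hL c) (g x₀)
    exact cst_inj q ⟨⟨x₀, hW⟩⟩ (((t c).unit W e he).mul_left_injective (h W e))
  have hmul : ∀ c z z', χ c (z * z') = χ c z * χ c z' := fun c z z' => huniq c _ _ fun V m => by
    rw [← hχ c (z * z')]
    simp only [hτmul]
    rw [← Scheme.Hom.appLE_comp_appLE (τ z) (τ z') (g ⁻¹ᵁ V) (g ⁻¹ᵁ V) (g ⁻¹ᵁ V) (preimage_le (hτg z') V)
      (preimage_le (hτg z) V), CommRingCat.comp_apply, hχ c z', map_mul, appLE_cst q (hτq z), hχ c z, cst_mul]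
    ring
  have hone : ∀ c, χ c 1 = 1 := fun c => huniq c _ _ fun V m => by
    rw [← hχ c 1, cst_one, one_mul]
    simp only [hτ1]
    rw [Scheme.Hom.appLE, Scheme.Hom.id_app]
    rw [Category.id_comp]
    exact ro_self _ _
  let X : S → (G →* K) := fun c => { toFun := χ c, map_one' := hone c, map_mul' := hmul c }
  have hunit : ∀ c z, IsUnit (χ c z) := fun c z => isUnit_iff_ne_zero.2 fun h0 => by
    obtain ⟨W, e, hW, he⟩ := Groth.L18.Frame.exists_frame (hL c) (g x₀)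
    have h1 := hχ c z W e
    rw [h0, show cst q (g ⁻¹ᵁ W) 0 = 0 by simp only [cst, map_zero]; try exact map_zero (Q.presheaf.map (homOfLE (le_top : g ⁻¹ᵁ W ≤ ⊤)).op).hom,
      zero_mul] at h1
    haveI : Nonempty ((g ⁻¹ᵁ W : Q.Opens) : Scheme.{u}) := ⟨⟨x₀, hW⟩⟩
    exact (((t c).unit W e he).map ((τ z).appLE (g ⁻¹ᵁ W) (g ⁻¹ᵁ W) (preimage_le (hτg z) W)).hom).ne_zero h1
  have hinj : Function.Injective X := fun c c' h => Subtype.ext (by
    rw [← hLc c, ← hLc c']
    refine (PicGrp.cl_eq_cl_iff _ _).2 (nonempty_iso_of_chi q τ hτg hdesc (hL c) (hL c') (t c) (t c') fun z => ?_)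
    refine ⟨χ c z, hunit c z, hχ c z, ?_⟩
    rw [show χ c z = χ c' z from congrArg (fun f : G →* K => f z) h]
    exact hχ c' z)
  have h1 := ((linearIndependent_monoidHom G K).comp X hinj).fintype_card_le_finrank
  rwa [Module.finrank_pi, Fintype.card_coe, ← Nat.card_eq_fintype_card] at h1

end Groth.Agent.Poincare.PullKernel
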