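import Mathlib.CategoryTheory.Preadditive.Basic
import Mathlib.CategoryTheory.Linear.Basic
import Mathlib.RingTheory.TensorProduct.Basic
import Mathlib.LinearAlgebra.TensorProduct.Tower
import Mathlib.Data.Matrix.Basic
import Mathlib.Data.Matrix.Basis
import Mathlib.LinearAlgebra.BilinearForm.TensorProduct
import Mathlib.RingTheory.Localization.Rat

/-!
# Endomorphisms of a decomposed object up to isogeny
-/

set_option autoImplicit false
set_option linter.style.haveILetI false
set_option linter.unusedSectionVars false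
set_option backward.isDefEq.respectTransparency false

universe v u w

open CategoryTheory
open scoped TensorProduct

noncomputable section

namespace Groth.Agent.Poincare.MatrixAlg

variable {C : Type u} [Category.{v} C] [Preadditive C] {A : C} {I : Type w} [Fintype I] [DecidableEq I]
  {B : I → C} {κ : I → Type w} [∀ i, Fintype (κ i)] [∀ i, DecidableEq (κ i)]
  (P : ∀ i, κ i → (A ⟶ B i)) (S : ∀ i, κ i → (B i ⟶ A)) (N : ℕ)

/-- The matrix of an endomorphism. -/
def mat : End A →+ (Π i, Matrix (κ i) (κ i) (ℚ ⊗[ℤ] End (B i))) :=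
  AddMonoidHom.mk' (fun a i => Matrix.of fun s t => (N : ℚ)⁻¹ ⊗ₜ[ℤ] (show End (B i) from S i t ≫ a ≫ P i s))
    fun a b => by
      funext i
      ext s t
      show (N : ℚ)⁻¹ ⊗ₜ[ℤ] (show End (B i) from S i t ≫ (show A ⟶ A from a + b) ≫ P i s) =
        (N : ℚ)⁻¹ ⊗ₜ[ℤ] (show End (B i) from S i t ≫ a ≫ P i s) + (N : ℚ)⁻¹ ⊗ₜ[ℤ] (show End (B i) from S i t ≫ b ≫ P i s)
      rw [← TensorProduct.tmul_add]
      congr 1
      show S i t ≫ (a + b) ≫ P i s = S i t ≫ a ≫ P i s + S i t ≫ b ≫ P i s
      rw [Preadditive.add_comp, Preadditive.comp_add]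

theorem inv_tmul_nsmul {M : Type*} [AddCommGroup M] {N : ℕ} (hN : N ≠ 0) (x : M) :
    (N : ℚ)⁻¹ ⊗ₜ[ℤ] (N • x) = (1 : ℚ) ⊗ₜ[ℤ] x := by
  rw [← natCast_zsmul, ← TensorProduct.smul_tmul, natCast_zsmul, nsmul_eq_mul, mul_inv_cancel₀ (Nat.cast_ne_zero.2 hN)]

/-- A rational class has an integral multiple. -/
theorem exists_zsmul_eq {M : Type*} [AddCommGroup M] (y : ℚ ⊗[ℤ] M) :
    ∃ (n : ℤ) (a : M), n ≠ 0 ∧ n • y = (1 : ℚ) ⊗ₜ[ℤ] a := by
  induction y using TensorProduct.induction_on with
  | zero => exact ⟨1, 0, one_ne_zero, by rw [smul_zero, TensorProduct.tmul_zero]⟩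
  | tmul q a =>
    refine ⟨q.den, q.num • a, by exact_mod_cast q.den_nz, ?_⟩
    rw [TensorProduct.smul_tmul', ← TensorProduct.smul_tmul]
    congr 1
    rw [zsmul_eq_mul, zsmul_eq_mul, Int.cast_natCast, mul_one, mul_comm, Rat.mul_den_eq_num]
  | add y z hy hz =>
    obtain ⟨n, a, hn, ha⟩ := hy
    obtain ⟨m, b, hm, hb⟩ := hz
    refine ⟨n * m, m • a + n • b, mul_ne_zero hn hm, ?_⟩
    rw [TensorProduct.tmul_add, TensorProduct.tmul_smul, TensorProduct.tmul_smul, ← ha, ← hb, smul_add, smul_smul,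
      smul_smul, mul_comm m n]

theorem smul_mul_smul_tmul {X : C} (q r : ℚ) (x y : ℚ ⊗[ℤ] End X) :
    (q * r) • (x * y) = (q • x) * (r • y) := by
  induction x using TensorProduct.induction_on with
  | zero => simp
  | add x x' hx hx' => rw [add_mul, smul_add, hx, hx', smul_add, add_mul]
  | tmul a b =>
    induction y using TensorProduct.induction_on with
    | zero => simp
    | add y y' hy hy' => rw [mul_add, smul_add, hy, hy', smul_add, mul_add]
    | tmul c d =>
      simp only [Algebra.TensorProduct.tmul_mul_tmul, TensorProduct.smul_tmul', smul_eq_mul]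
      congr 1
      ring

variable {P S N} (hN : N ≠ 0)
  (h1 : ∀ i s t, S i s ≫ P i t = if s = t then N • 𝟙 (B i) else 0)
  (h0 : ∀ i j, i ≠ j → ∀ f : B i ⟶ B j, f = 0)
  (h2 : ∑ i, ∑ t, P i t ≫ S i t = N • 𝟙 A)

include hN h1 in
theorem mat_one : mat P S N 1 = 1 := by
  funext i
  ext s t
  show (N : ℚ)⁻¹ ⊗ₜ[ℤ] (show End (B i) from S i t ≫ 𝟙 A ≫ P i s) = (1 : Matrix (κ i) (κ i) (ℚ ⊗[ℤ] End (B i))) s t
  rw [Matrix.one_apply]
  simp only [Category.id_comp, h1]
  split_ifs with h h' h'
  · exact inv_tmul_nsmul hN (1 : End (B i))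
  · exact absurd h.symm h'
  · exact absurd h'.symm h
  · exact TensorProduct.tmul_zero _ _

include hN h0 h2 in
theorem mat_mul (a b : End A) : mat P S N (a * b) = mat P S N a * mat P S N b := by
  funext i
  ext s t
  rw [Pi.mul_apply, Matrix.mul_apply]
  show (N : ℚ)⁻¹ ⊗ₜ[ℤ] (show End (B i) from S i t ≫ (b ≫ a) ≫ P i s) =
    ∑ w, ((N : ℚ)⁻¹ ⊗ₜ[ℤ] (show End (B i) from S i w ≫ a ≫ P i s)) *
      ((N : ℚ)⁻¹ ⊗ₜ[ℤ] (show End (B i) from S i t ≫ b ≫ P i w))
  simp only [Algebra.TensorProduct.tmul_mul_tmul]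
  rw [← TensorProduct.tmul_sum]
  have hs : ∑ w, ((show End (B i) from S i w ≫ a ≫ P i s) * (show End (B i) from S i t ≫ b ≫ P i w)) =
      N • (show End (B i) from S i t ≫ (b ≫ a) ≫ P i s) := by
    show ∑ w, (S i t ≫ b ≫ P i w) ≫ S i w ≫ a ≫ P i s = N • (S i t ≫ (b ≫ a) ≫ P i s)
    have hall : ∑ j, ∑ w, (S i t ≫ b ≫ P j w) ≫ S j w ≫ a ≫ P i s = N • (S i t ≫ (b ≫ a) ≫ P i s) := by
      have e : ∀ j w, (S i t ≫ b ≫ P j w) ≫ S j w ≫ a ≫ P i s = (S i t ≫ b) ≫ (P j w ≫ S j w) ≫ a ≫ P i s :=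
        fun j w => by simp only [Category.assoc]
      simp only [e]
      rw [show ∑ j, ∑ w, (S i t ≫ b) ≫ (P j w ≫ S j w) ≫ a ≫ P i s =
          (S i t ≫ b) ≫ (∑ j, ∑ w, P j w ≫ S j w) ≫ a ≫ P i s by
        simp only [Preadditive.sum_comp, Preadditive.comp_sum], h2]
      simp only [Preadditive.nsmul_comp, Preadditive.comp_nsmul, Category.id_comp, Category.assoc]
    rw [← hall, Finset.sum_eq_single i]
    · intro j _ hj
      exact Finset.sum_eq_zero fun w _ => by rw [h0 i j hj.symm (S i t ≫ b ≫ P j w), Limits.zero_comp]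
    · exact fun h => absurd (Finset.mem_univ i) h
  rw [hs, ← natCast_zsmul (show End (B i) from S i t ≫ (b ≫ a) ≫ P i s) N, ← TensorProduct.smul_tmul, zsmul_eq_mul,
    Int.cast_natCast, ← mul_assoc, mul_inv_cancel₀ (Nat.cast_ne_zero.2 hN), one_mul]

include hN h1 h0 h2 in
/-- The rational endomorphism algebra of a decomposed object is a product of matrix algebras. -/
theorem nonempty_algEquiv (hA : ∀ (n : ℕ) (a : End A), n ≠ 0 → n • a = 0 → a = 0)
    (hB : ∀ (i : I) (x : End (B i)), (1 : ℚ) ⊗ₜ[ℤ] x = 0 → x = 0) :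
    Nonempty ((ℚ ⊗[ℤ] End A) ≃ₐ[ℚ] (Π i, Matrix (κ i) (κ i) (ℚ ⊗[ℤ] End (B i)))) := by
  let φ := mat P S N
  let F : (ℚ ⊗[ℤ] End A) →ₗ[ℚ] (Π i, Matrix (κ i) (κ i) (ℚ ⊗[ℤ] End (B i))) :=
    LinearMap.liftBaseChange ℚ φ.toIntLinearMap
  have hF : ∀ (q : ℚ) a, F (q ⊗ₜ a) = q • φ a := fun q a => LinearMap.liftBaseChange_tmul ℚ _ _ _
  have hmul : ∀ x y, F (x * y) = F x * F y := by
    intro x y
    induction x using TensorProduct.induction_on with
    | zero => rw [zero_mul, map_zero, zero_mul]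
    | add x x' hx hx' => rw [add_mul, map_add, map_add, hx, hx', add_mul]
    | tmul q a =>
      induction y using TensorProduct.induction_on with
      | zero => rw [mul_zero, map_zero, mul_zero]
      | add y y' hy hy' => rw [mul_add, map_add, map_add, hy, hy', mul_add]
      | tmul r b =>
        rw [Algebra.TensorProduct.tmul_mul_tmul, hF, hF, hF, mat_mul hN h0 h2 a b]
        funext i
        show (q * r) • (φ a i * φ b i) = (q • φ a i) * (r • φ b i)
        ext s t
        simp only [Matrix.smul_apply, Matrix.mul_apply, Finset.smul_sum]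
        refine Finset.sum_congr rfl fun w _ => ?_
        exact smul_mul_smul_tmul q r _ _
  let Fa : (ℚ ⊗[ℤ] End A) →ₐ[ℚ] (Π i, Matrix (κ i) (κ i) (ℚ ⊗[ℤ] End (B i))) :=
    AlgHom.ofLinearMap F (by rw [Algebra.TensorProduct.one_def, hF, one_smul]; exact mat_one hN h1) hmul
  refine ⟨AlgEquiv.ofBijective Fa ⟨?_, ?_⟩⟩
  · rw [injective_iff_map_eq_zero]
    intro y hy
    obtain ⟨n, a, hn, ha⟩ := exists_zsmul_eq y
    have hφ : φ a = 0 := by
      have h := congrArg Fa ha
      rw [map_zsmul, hy, smul_zero] at h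
      have h' : F ((1 : ℚ) ⊗ₜ[ℤ] a) = 0 := h.symm
      rwa [hF, one_smul] at h'
    have hz : ∀ i s t, S i t ≫ a ≫ P i s = 0 := fun i s t => hB i _ (by
      have h : (N : ℚ)⁻¹ ⊗ₜ[ℤ] (show End (B i) from S i t ≫ a ≫ P i s) = 0 := congrFun (congrFun (congrFun hφ i) s) t
      rw [← inv_tmul_nsmul hN (show End (B i) from S i t ≫ a ≫ P i s), TensorProduct.tmul_smul, h, smul_zero])
    have hz' : ∀ i j s t, S i t ≫ a ≫ P j s = 0 := fun i j s t => by
      by_cases hij : i = j
      · subst hij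
        exact hz i s t
      · exact h0 i j hij _
    have ha0 : a = 0 := by
      refine hA (N * N) a (mul_ne_zero hN hN) ?_
      have h : (∑ i, ∑ t, P i t ≫ S i t) ≫ a ≫ (∑ i, ∑ t, P i t ≫ S i t) = 0 := by
        simp only [Preadditive.sum_comp, Preadditive.comp_sum]
        refine Finset.sum_eq_zero fun i _ => Finset.sum_eq_zero fun t _ => Finset.sum_eq_zero fun j _ =>
          Finset.sum_eq_zero fun s _ => ?_
        simp only [Category.assoc]
        simp only [reassoc_of% hz', Limits.zero_comp, Limits.comp_zero]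
      rw [h2, Preadditive.nsmul_comp, Category.id_comp, Preadditive.comp_nsmul, Category.comp_id, smul_smul] at h
      exact h
    subst ha0
    rw [TensorProduct.tmul_zero, ← Int.cast_smul_eq_zsmul ℚ] at ha
    rw [← inv_smul_smul₀ (Int.cast_ne_zero.2 hn : (n : ℚ) ≠ 0) y, ha, smul_zero]
  · have hsingle : ∀ (i : I) (s t : κ i) (e : ℚ ⊗[ℤ] End (B i)),
        ∃ x, Fa x = Pi.single i (Matrix.single s t e) := by
      intro i s t e
      induction e using TensorProduct.induction_on with
      | zero => exact ⟨0, by simp⟩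
      | add e e' he he' =>
        obtain ⟨x, hx⟩ := he
        obtain ⟨x', hx'⟩ := he'
        exact ⟨x + x', by rw [map_add, hx, hx', Matrix.single_add, Pi.single_add]⟩
      | tmul q b =>
        refine ⟨(q * (N : ℚ)⁻¹) ⊗ₜ (show End A from P i t ≫ b ≫ S i s), ?_⟩
        refine Eq.trans (hF _ _) ?_
        funext j
        ext s' t'
        show (q * (N : ℚ)⁻¹) • ((N : ℚ)⁻¹ ⊗ₜ[ℤ] (show End (B j) from S j t' ≫ (P i t ≫ b ≫ S i s) ≫ P j s')) = _
        by_cases hji : j = i
        · subst hji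
          rw [Pi.single_eq_same, Matrix.single_apply]
          have hval : S j t' ≫ (P j t ≫ b ≫ S j s) ≫ P j s' =
              if s = s' ∧ t = t' then (N * N) • b else 0 := by
            simp only [Category.assoc]
            rw [h1, ← Category.assoc (S j t'), h1]
            by_cases hs : s = s'
            · by_cases ht : t = t'
              · simp only [hs, ht, and_self, if_true, Preadditive.nsmul_comp, Preadditive.comp_nsmul,
                  Category.id_comp, Category.comp_id, smul_smul]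
              · simp only [hs, ht, Ne.symm ht, and_false, if_false, Limits.zero_comp]
            · simp only [hs, false_and, if_false, Limits.comp_zero]
          rw [hval]
          split_ifs with h
          · rw [mul_nsmul, inv_tmul_nsmul hN, TensorProduct.smul_tmul', smul_eq_mul, mul_one,
              ← natCast_zsmul b N, ← TensorProduct.smul_tmul, zsmul_eq_mul, Int.cast_natCast, mul_left_comm,
              mul_inv_cancel₀ (Nat.cast_ne_zero.2 hN), mul_one]
          · rw [show ((0 : B j ⟶ B j) : End (B j)) = (0 : End (B j)) from rfl, TensorProduct.tmul_zero, smul_zero]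
        · rw [Pi.single_eq_of_ne hji, Matrix.zero_apply,
            show S j t' ≫ (P i t ≫ b ≫ S i s) ≫ P j s' = 0 by
              simp only [Category.assoc]
              rw [← Category.assoc (S j t'), h0 j i hji (S j t' ≫ P i t), Limits.zero_comp],
            show ((0 : B j ⟶ B j) : End (B j)) = (0 : End (B j)) from rfl, TensorProduct.tmul_zero, smul_zero]
    intro y
    choose x hx using hsingle
    refine ⟨∑ i, ∑ s, ∑ t, x i s t (y i s t), ?_⟩
    simp only [map_sum, hx]
    funext j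
    simp only [Finset.sum_apply]
    rw [Finset.sum_eq_single j]
    · simp only [Pi.single_eq_same]
      exact (Matrix.matrix_eq_sum_single (y j)).symm
    · intro i _ hij
      exact Finset.sum_eq_zero fun s _ => Finset.sum_eq_zero fun t _ => Pi.single_eq_of_ne (Ne.symm hij) _
    · exact fun h => absurd (Finset.mem_univ j) h

end Groth.Agent.Poincare.MatrixAlg
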