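import Groth.Agent.L26.Poincare.Reducibility
import Groth.Agent.L26.AV.SurjTrivial
import Groth.Agent.L26.AV.SmoothField
import Groth.Agent.L26.AV.CharMin
import Groth.Agent.L18.AmpleExternal
import Mathlib.AlgebraicGeometry.Group.Smooth
import Mathlib.Topology.Separation.Connected

/-!
# Self-adjoint endomorphisms attached to a homomorphism
-/

set_option autoImplicit false
set_option linter.style.haveILetI false
set_option linter.unusedSectionVars false
set_option backward.isDefEq.respectTransparency false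

universe u

open CategoryTheory CategoryTheory.Limits MonoidalCategory CartesianMonoidalCategory AlgebraicGeometry
open scoped MonObj

noncomputable section

namespace Groth.Agent.Poincare.Adjoint

open Groth.Agent.AV Orth

attribute [local instance] Groth.L08.Cube.clMonoid InterPic.picLaw

variable {k : Type u} [Field k] {A : Over (Spec (CommRingCat.of k))}
  [GrpObj A] [IsCommMonObj A] [IsProper A.hom] [GeometricallyIntegral A.hom]
  (L : A.left.Modules) (hamp : CohB1.IsAmple L)

/-- A product of abelian varieties is proper and geometrically integral. -/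
theorem prod_instances (X Y : Over (Spec (CommRingCat.of k))) [GrpObj X] [GrpObj Y] [IsProper X.hom] [IsProper Y.hom]
    [GeometricallyIntegral X.hom] [GeometricallyIntegral Y.hom] :
    IsProper (X ⊗ Y).hom ∧ GeometricallyIntegral (X ⊗ Y).hom := by
  haveI hp : IsProper (X ⊗ Y).hom := by
    change IsProper (pullback.fst X.hom Y.hom ≫ X.hom)
    infer_instance
  refine ⟨hp, ?_⟩
  have : GeometricallyReduced (X ⊗ Y).hom := by
    have : GrpObj (Over.mk X.hom) := inferInstanceAs (GrpObj X)
    have : GrpObj (Over.mk Y.hom) := inferInstanceAs (GrpObj Y)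
    have : Smooth X.hom := smooth_of_grpObj X.hom
    have : Smooth Y.hom := smooth_of_grpObj Y.hom
    change GeometricallyReduced (pullback.fst X.hom Y.hom ≫ X.hom)
    exact Groth.Agent.AV.geometricallyReduced_of_smooth _
  have : ConnectedSpace (X ⊗ Y).left := by
    have : IsIntegral X.left := GeometricallyIntegral.isIntegral_of_subsingleton X.hom
    have : IsLocallyNoetherian X.left := LocallyOfFiniteType.isLocallyNoetherian X.hom
    have : IsIntegral (X ⊗ Y).left := by
      change IsIntegral (pullback X.hom Y.hom)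
      infer_instance
    infer_instance
  exact Groth.Agent.AV.geometricallyIntegral_of_connected _

theorem bil_comm (hL : PicF.IsInvertible L) {W : Over (Spec (CommRingCat.of k))} (x y : W ⟶ A) :
    bil L hL x y = bil L hL y x := by
  show DegreeForm.F L hL (x * y) - DegreeForm.F L hL x - DegreeForm.F L hL y =
    DegreeForm.F L hL (y * x) - DegreeForm.F L hL y - DegreeForm.F L hL x
  rw [_root_.mul_comm x y]
  abel

/-- A class trivial after a surjective change of the first factor and along a section is trivial. -/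
theorem eq_zero_of_surjective {P P' C : Over (Spec (CommRingCat.of k))}
    [LocallyOfFiniteType P.hom] [IsReduced P.left] [IsProper C.hom] [GeometricallyIntegral C.hom]
    (φ : P' ⟶ P) [Surjective φ.left] (c₀ : 𝟙_ (Over (Spec (CommRingCat.of k))) ⟶ C)
    (a : Additive (PicLoc.PicSet (P ⊗ C).left)) (h : pb (φ ▷ C) a = 0)
    (h0 : pb (lift (𝟙 P) (toUnit P ≫ c₀)) a = 0) : a = 0 := by
  have hr := SurjTrivial.cl_eq_one φ c₀ (InterPic.rep a.toMul) (InterPic.isInvertible_rep _)
    (by rw [InterPic.cl_rep, ← pb_val, h]; rfl) (by rw [InterPic.cl_rep, ← pb_val, h0]; rfl)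
  rw [InterPic.cl_rep] at hr
  exact Additive.toMul.injective (Subtype.ext hr)

include hamp in
/-- The pairing of an ample class is nondegenerate on homomorphisms. -/
theorem eq_one_of_bil_eq_zero {X : Over (Spec (CommRingCat.of k))}
    [GrpObj X] [IsCommMonObj X] [IsProper X.hom] [GeometricallyIntegral X.hom] (t : X ⟶ A) [IsMonHom t]
    (h : bil L hamp.1 (fst X X ≫ t) (snd X X ≫ t) = 0) : t = 1 := by
  obtain ⟨B, gB, i, p, him, hic, hBp, hBg, hps, hpi, hpm⟩ := exists_image t
  letI := gB
  haveI := him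
  haveI := hic
  haveI := hBp
  haveI := hBg
  haveI := hps
  haveI : Mono i := Groth.L08.mono_of_closedImmersion i
  haveI : IsCommMonObj B := Reducibility.isCommMonObj_of_mono i
  haveI : IsIntegral B.left := GeometricallyIntegral.isIntegral_of_subsingleton B.hom
  have c₁ : pair L hamp.1 i t = 0 := by
    refine eq_zero_of_surjective p η[X] _ ?_ ?_
    · unfold Orth.pair
      rw [pb_bil, whiskerRight_fst_assoc, whiskerRight_snd_assoc, hpi, h]
    · unfold Orth.pair
      rw [pb_bil, lift_fst_assoc, lift_snd_assoc, ← Hom.one_def, MonObj.one_comp, bil_one_right]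
  have c₂ : pair L hamp.1 i i = 0 := by
    refine eq_zero_of_surjective p η[B] _ ?_ ?_
    · have h2 := congrArg (pb (β_ X B).hom) c₁
      unfold Orth.pair at h2 ⊢
      rw [map_zero, pb_bil, braiding_hom_fst_assoc, braiding_hom_snd_assoc,
        bil_comm] at h2
      rw [pb_bil, whiskerRight_fst_assoc, whiskerRight_snd_assoc, hpi, h2]
    · unfold Orth.pair
      rw [pb_bil, lift_fst_assoc, lift_snd_assoc, ← Hom.one_def, MonObj.one_comp, bil_one_right]
  haveI := Split.isFinite_inter L hamp i i c₂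
  haveI : IsFinite B.hom := by
    let d : B ⟶ pullback i i := pullback.lift (𝟙 B) (𝟙 B) rfl
    haveI : IsIso d := ⟨⟨pullback.fst i i, pullback.lift_fst _ _ _, pullback.hom_ext
      (by rw [Category.assoc, pullback.lift_fst, Category.comp_id, Category.id_comp])
      (by rw [Category.assoc, pullback.lift_snd, Category.comp_id, Category.id_comp, ← cancel_mono i, pullback.condition])⟩⟩
    haveI : IsIso d.left := inferInstanceAs (IsIso ((Over.forget _).map d))
    rw [← Over.w d]
    infer_instance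
  haveI : Subsingleton B.left := by
    haveI : JacobsonSpace B.left := LocallyOfFiniteType.jacobsonSpace B.hom
    have huniv : (Set.univ : Set B.left).Finite :=
      (B.hom.finite_preimage_singleton (IsLocalRing.closedPoint k)).subset fun x _ =>
        Set.mem_singleton_iff.2 (Subsingleton.elim (α := PrimeSpectrum k) _ _)
    haveI : Finite B.left := Set.finite_univ_iff.1 huniv
    haveI : ConnectedSpace B.left := inferInstance
    exact PreconnectedSpace.trivial_of_discrete
  rw [← hpi, ← Category.id_comp i, HomFin.id_eq_one_of_subsingleton B, MonObj.one_comp, MonObj.comp_one]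

/-- An ample class on the square with the orthogonal sum of the pairings. -/
theorem exists_ample_square :
    ∃ (M : (A ⊗ A).left.Modules) (hM : CohB1.IsAmple M), ∀ {W : Over (Spec (CommRingCat.of k))} (φ : W ⟶ A ⊗ A),
      DegreeForm.F M hM.1 φ = DegreeForm.F L hamp.1 (φ ≫ fst A A) + DegreeForm.F L hamp.1 (φ ≫ snd A A) := by
  refine ⟨_, Groth.L18.Ample.isAmple_external A.hom A.hom hamp hamp, fun {W} φ => Subtype.ext ?_⟩
  show PicF.pullCl φ.left (PicF.pullCl (fst A A).left (PicF.cl L) * PicF.pullCl (snd A A).left (PicF.cl L)) =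
    PicF.pullCl (φ ≫ fst A A).left (PicF.cl L) * PicF.pullCl (φ ≫ snd A A).left (PicF.cl L)
  rw [Groth.L08.Cube.pullCl_mul, ← PicLoc.pullCl_comp, ← PicLoc.pullCl_comp]
  rfl

include hamp in
/-- For a homomorphism `a` there are `x` and `N ≥ 1` with `a ≫ x` self-adjoint up to `N` and the basic identity. -/
theorem exists_selfAdjoint (a : A ⟶ A) [IsMonHom a] :
    ∃ (x : A ⟶ A) (N : ℕ), IsMonHom x ∧ 1 ≤ N ∧
      (∀ {W : Over (Spec (CommRingCat.of k))} (f g : W ⟶ A),
        N • bil L hamp.1 (f ≫ a ≫ x) g = N • bil L hamp.1 f (g ≫ a ≫ x)) ∧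
      ∀ {W : Over (Spec (CommRingCat.of k))} (f g : W ⟶ A),
        bil L hamp.1 f (g ≫ a ≫ x) + bil L hamp.1 (f ≫ a) (g ≫ (a ≫ x) ≫ a) =
          N • bil L hamp.1 (f ≫ a) (g ≫ a) := by
  obtain ⟨hPp, hPg⟩ := prod_instances A A
  haveI := hPp
  haveI := hPg
  obtain ⟨M, hM, hMF⟩ := exists_ample_square L hamp
  have hbil : ∀ {W : Over (Spec (CommRingCat.of k))} (φ ψ : W ⟶ A ⊗ A), bil M hM.1 φ ψ =
      bil L hamp.1 (φ ≫ fst A A) (ψ ≫ fst A A) + bil L hamp.1 (φ ≫ snd A A) (ψ ≫ snd A A) := by
    intro W φ ψ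
    show DegreeForm.F M hM.1 (φ * ψ) - DegreeForm.F M hM.1 φ - DegreeForm.F M hM.1 ψ =
      (DegreeForm.F L hamp.1 ((φ ≫ fst A A) * (ψ ≫ fst A A)) - DegreeForm.F L hamp.1 (φ ≫ fst A A) -
        DegreeForm.F L hamp.1 (ψ ≫ fst A A)) +
      (DegreeForm.F L hamp.1 ((φ ≫ snd A A) * (ψ ≫ snd A A)) - DegreeForm.F L hamp.1 (φ ≫ snd A A) -
        DegreeForm.F L hamp.1 (ψ ≫ snd A A))
    rw [hMF, hMF, hMF, MonObj.mul_comp, MonObj.mul_comp]
    abel
  let i : A ⟶ A ⊗ A := lift (𝟙 A) a
  haveI : IsMonHom i := inferInstance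
  haveI : IsClosedImmersion i.left := by
    haveI : IsSeparated (fst A A).left :=
      MorphismProperty.of_isPullback (Groth.L08.Cube.isPullback_prod A A).flip (inferInstance : IsSeparated A.hom)
    haveI : IsClosedImmersion (i.left ≫ (fst A A).left) := by
      rw [← Over.comp_left, lift_fst, Over.id_left]
      infer_instance
    exact IsClosedImmersion.of_comp i.left (fst A A).left
  obtain ⟨q, N, hqm, hN, hiq, hq⟩ := Reducibility.exists_proj M hM i
  haveI := hqm
  let x := lift (1 : A ⟶ A) (𝟙 A) ≫ q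
  have hxm : IsMonHom x := by
    refine Groth.Agent.AV.isMonHom_of_one x ?_
    rw [← Category.assoc, comp_lift, MonObj.comp_one, Category.comp_id]
    exact (congrArg (· ≫ q) (show lift (1 : 𝟙_ _ ⟶ A) η[A] = η[A ⊗ A] by
      apply CartesianMonoidalCategory.hom_ext <;>
        simp [Hom.one_def, toUnit_unique (toUnit (𝟙_ (Over (Spec (CommRingCat.of k))))) (𝟙 _)])).trans (IsMonHom.one_hom q)
  haveI := hxm
  let s := a ≫ x
  have hy : lift (1 : A ⟶ A) a ≫ (𝟙 (A ⊗ A) ^ N * (q ≫ i)⁻¹) = lift s⁻¹ (a ^ N * (s ≫ a)⁻¹) := by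
    have hxy : lift (1 : A ⟶ A) a ≫ q = s := by
      show _ = a ≫ lift 1 (𝟙 A) ≫ q
      rw [← Category.assoc a, comp_lift, MonObj.comp_one, Category.comp_id]
    refine CartesianMonoidalCategory.hom_ext _ _ ?_ ?_
    · rw [MonObj.comp_mul, GrpObj.comp_inv, MonObj.comp_pow, Category.comp_id, reassoc_of% hxy,
        MonObj.mul_comp, MonObj.pow_comp, GrpObj.inv_comp, lift_fst, lift_fst, Category.assoc, lift_fst,
        Category.comp_id, one_pow, _root_.one_mul]
    · rw [MonObj.comp_mul, GrpObj.comp_inv, MonObj.comp_pow, Category.comp_id, reassoc_of% hxy,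
        MonObj.mul_comp, MonObj.pow_comp, GrpObj.inv_comp, lift_snd, lift_snd, Category.assoc, lift_snd]
  have key : ∀ {W : Over (Spec (CommRingCat.of k))} (f g : W ⟶ A),
      bil L hamp.1 f (g ≫ s) + bil L hamp.1 (f ≫ a) (g ≫ s ≫ a) = N • bil L hamp.1 (f ≫ a) (g ≫ a) := by
    intro W f g
    have h1 : pb (lift f g) (pair M hM.1 i (lift (1 : A ⟶ A) a ≫ (𝟙 (A ⊗ A) ^ N * (q ≫ i)⁻¹))) = 0 := by
      rw [← pb_pair, hq, map_zero, map_zero]
    unfold Orth.pair at h1
    rw [pb_bil, lift_fst_assoc, lift_snd_assoc, hy, hbil, comp_lift, comp_lift, lift_fst, lift_fst, lift_snd,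
      lift_snd, Category.comp_id, GrpObj.comp_inv, MonObj.comp_mul, GrpObj.comp_inv, MonObj.comp_pow,
      bil_mul_right, bil_inv_right, bil_inv_right, bil_pow_right] at h1
    rw [← sub_eq_zero]
    have h2 := neg_eq_zero.2 h1
    rw [← h2]
    abel
  refine ⟨x, N, hxm, hN, fun {W} f g => ?_, fun {W} f g => ?_⟩
  · have hX : N • bil L hamp.1 (f ≫ s ≫ a) (g ≫ a) = N • bil L hamp.1 (f ≫ a) (g ≫ s ≫ a) := by
      have k1 := key (f ≫ s) g
      have k2 := key (g ≫ s) f
      simp only [Category.assoc] at k1 k2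
      rw [bil_comm L hamp.1 (g ≫ s) (f ≫ s), bil_comm L hamp.1 (g ≫ s ≫ a) (f ≫ s ≫ a),
        bil_comm L hamp.1 (g ≫ s ≫ a) (f ≫ a), k1] at k2
      exact k2
    show N • bil L hamp.1 (f ≫ s) g = N • bil L hamp.1 f (g ≫ s)
    have k1 := congrArg (N • ·) (key f g)
    have k2 := congrArg (N • ·) (key g f)
    simp only [smul_add] at k1 k2
    rw [bil_comm L hamp.1 g (f ≫ s), bil_comm L hamp.1 (g ≫ a) (f ≫ s ≫ a), bil_comm L hamp.1 (g ≫ a) (f ≫ a), hX,
      ← k1] at k2
    exact add_right_cancel k2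
  · have k := key f g
    simp only [Category.assoc] at k ⊢
    exact k

include hamp in
/-- A nonzero endomorphism has a left multiple that is not nilpotent. -/
theorem exists_not_nilpotent (a : EndAV.End A) (ha : a ≠ 0) : ∃ x : EndAV.End A, ¬ IsNilpotent (x * a) := by
  obtain ⟨x, N, hxm, hN, hadj, hid⟩ := exists_selfAdjoint L hamp a.toHom
  haveI := hxm
  -- self-adjointness up to N
  let S : EndAV.End A → Prop := fun t => ∀ {W : Over (Spec (CommRingCat.of k))} (f g : W ⟶ A),
    N • bil L hamp.1 (f ≫ t.toHom) g = N • bil L hamp.1 f (g ≫ t.toHom)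
  have hsq : ∀ t, S t → S (t * t) := fun t ht W f g => by
    rw [EndAV.End.toHom_mul, ← Category.assoc, ht, ht, Category.assoc]
  have hcancel : ∀ (t : EndAV.End A) {c : ℕ}, 1 ≤ c →
      c • bil L hamp.1 (fst A A ≫ t.toHom) (snd A A ≫ t.toHom) = 0 → t = 0 := fun t c hc h => by
    haveI : IsMonHom (t.toHom ^ c) := by
      have h' := EndAV.Hom.isMonHom_toHom (c • (t : EndAV.Hom A A))
      rwa [EndAV.Hom.toHom_nsmul] at h'
    have h1 : t.toHom ^ c = 1 := eq_one_of_bil_eq_zero L hamp (t.toHom ^ c) (by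
      rw [MonObj.comp_pow, MonObj.comp_pow, bil_pow_left, bil_pow_right, h, smul_zero])
    exact EndAV.End.ext ((Reducibility.eq_one_of_pow t.toHom c hc h1).trans EndAV.End.toHom_zero.symm)
  have hmul : ∀ t, S t → t * t = 0 → t = 0 := fun t ht h => hcancel t hN <| by
    rw [ht, Category.assoc]
    have h' := congrArg EndAV.End.toHom h
    rw [EndAV.End.toHom_mul, EndAV.End.toHom_zero] at h'
    rw [h', MonObj.comp_one, bil_one_right, smul_zero]
  let s : EndAV.End A := EndAV.End.of x * a
  have hs : S s := fun {W} f g => by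
    have h := hadj f g
    rwa [show s.toHom = a.toHom ≫ x from by rw [EndAV.End.toHom_mul, EndAV.End.toHom_of]]
  have hs0 : s ≠ 0 := fun h0 => ha (hcancel a hN (by
    have h := hid (fst A A) (snd A A)
    have h' : a.toHom ≫ x = 1 := by
      have := congrArg EndAV.End.toHom h0
      rwa [EndAV.End.toHom_mul, EndAV.End.toHom_of, EndAV.End.toHom_zero] at this
    rw [h', MonObj.comp_one, bil_one_right, MonObj.one_comp, MonObj.comp_one, bil_one_right, add_zero] at h
    exact h.symm))
  have hpow : ∀ m : ℕ, S (s ^ 2 ^ m) ∧ s ^ 2 ^ m ≠ 0 := by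
    intro m
    induction m with
    | zero => rw [pow_zero, pow_one]; exact ⟨hs, hs0⟩
    | succ m ih =>
      rw [pow_succ, pow_mul, pow_two]
      exact ⟨hsq _ ih.1, fun h => ih.2 (hmul _ ih.1 h)⟩
  refine ⟨EndAV.End.of x, fun ⟨n, hn⟩ => (hpow n).2 ?_⟩
  exact pow_eq_zero_of_le Nat.lt_two_pow_self.le hn

end Groth.Agent.Poincare.Adjoint
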