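import Groth.Agent.L26.Poincare.Adjoint
import Groth.Agent.L08.Cube.Invariant
import Mathlib.Algebra.Polynomial.Coeff

/-!
# The pairing of an ample class, its adjoints and the trace
-/

set_option autoImplicit false
set_option linter.style.haveILetI false
set_option linter.unusedSectionVars false
set_option backward.isDefEq.respectTransparency false

universe u

open CategoryTheory CategoryTheory.Limits MonoidalCategory CartesianMonoidalCategory AlgebraicGeometry
open scoped MonObj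

noncomputable section

namespace Groth.Agent.Poincare.Rosati

open Groth.Agent.AV Orth DegreeForm

attribute [local instance] Groth.L08.Cube.clMonoid InterPic.picLaw

variable {k : Type u} [Field k]

/-- The value of a class. -/
def val (X : Scheme.{u}) : Multiplicative (Additive (PicLoc.PicSet X)) →* PicF.Cl X where
  toFun a := a.toAdd.toMul.1
  map_one' := rfl
  map_mul' _ _ := rfl

theorem val_nsmul {X : Scheme.{u}} (n : ℕ) (a : Additive (PicLoc.PicSet X)) :
    (n • a).toMul.1 = a.toMul.1 ^ n := map_pow (val X) (Multiplicative.ofAdd a) n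

theorem ext_val {X : Scheme.{u}} {a b : Additive (PicLoc.PicSet X)} (h : a.toMul.1 = b.toMul.1) : a = b :=
  Additive.toMul.injective (Subtype.ext h)

/-- Classes of a point are trivial. -/
theorem eq_zero_unit (a : Additive (PicLoc.PicSet (𝟙_ (Over (Spec (CommRingCat.of k)))).left)) : a = 0 := by
  haveI : Subsingleton (𝟙_ (Over (Spec (CommRingCat.of k)))).left := inferInstanceAs (Subsingleton (PrimeSpectrum k))
  exact ext_val (Groth.Agent.AbDualLib.eq_oneCl_of_subsingleton a.toMul.2)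

variable {A : Over (Spec (CommRingCat.of k))}
  [GrpObj A] [IsCommMonObj A] [IsProper A.hom] [GeometricallyIntegral A.hom]
  (L : A.left.Modules) (hL : PicF.IsInvertible L)

theorem pb_F {W W' : Over (Spec (CommRingCat.of k))} (h : W' ⟶ W) (φ : W ⟶ A) :
    pb h (F L hL φ) = F L hL (h ≫ φ) :=
  ext_val (Groth.L08.Cube.pullCl_pc L h φ)

theorem F_const {W : Over (Spec (CommRingCat.of k))} (y : 𝟙_ (Over (Spec (CommRingCat.of k))) ⟶ A) :
    F L hL (toUnit W ≫ y) = 0 := by
  rw [← pb_F, eq_zero_unit (F L hL y), map_zero]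

theorem F_mul {W : Over (Spec (CommRingCat.of k))} (x y : W ⟶ A) :
    F L hL (x * y) = F L hL x + F L hL y + bil L hL x y := by
  show _ = _ + (F L hL (x * y) - F L hL x - F L hL y)
  abel

theorem val_F_id : (F L hL (𝟙 A)).toMul.1 = PicF.cl L := by
  show PicF.pullCl (𝟙 A : A ⟶ A).left (PicF.cl L) = _
  rw [Over.id_left, PicLoc.pullCl_id]

theorem bil_inv_left {W : Over (Spec (CommRingCat.of k))} (x y : W ⟶ A) : bil L hL x⁻¹ y = - bil L hL x y := by
  rw [Adjoint.bil_comm, bil_inv_right, Adjoint.bil_comm L hL y x]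

theorem bil_self {W : Over (Spec (CommRingCat.of k))} (x : W ⟶ A) :
    bil L hL x x = F L hL x + F L hL x⁻¹ := by
  have h := F_mul L hL x x⁻¹
  rw [mul_inv_cancel, F_one, bil_inv_right] at h
  exact sub_eq_zero.1 ((neg_eq_zero.1 (by rw [h]; abel : -(bil L hL x x - (F L hL x + F L hL x⁻¹)) = 0)))

/-! ### From points to all pairs -/

/-- A class on a product trivial on the slices and along a section is trivial. -/
theorem eq_zero_of_slices [IsAlgClosed k] {C X : Over (Spec (CommRingCat.of k))} [IsProper C.hom]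
    [GeometricallyIntegral C.hom] [LocallyOfFiniteType X.hom] [IsReduced X.left]
    (c₀ : 𝟙_ (Over (Spec (CommRingCat.of k))) ⟶ C) (a : Additive (PicLoc.PicSet (C ⊗ X).left))
    (h : ∀ x, pb (Groth.L08.Cube.slice C x) a = 0) (h0 : pb (lift (toUnit X ≫ c₀) (𝟙 X)) a = 0) : a = 0 := by
  haveI : IsLocallyNoetherian X.left := LocallyOfFiniteType.isLocallyNoetherian X.hom
  haveI : JacobsonSpace X.left := LocallyOfFiniteType.jacobsonSpace X.hom
  haveI : GeometricallyIntegral (snd C X).left :=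
    MorphismProperty.of_isPullback (Groth.L08.Cube.isPullback_prod C X) ‹GeometricallyIntegral C.hom›
  haveI : Flat (snd C X).left := Groth.L08.Cube.flat_snd C X
  haveI : IsProper (snd C X).left := Groth.L08.Cube.isProper_snd C X
  haveI : LocallyOfFinitePresentation (snd C X).left := LocallyOfFinitePresentation.iff_locallyOfFiniteType.2 inferInstance
  let Λ := InterPic.rep a.toMul
  have hΛ := InterPic.isInvertible_rep a.toMul
  have hΛc : PicF.cl Λ = a.toMul.1 := InterPic.cl_rep _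
  have hclosed : ∀ w : X.left, IsClosed ({w} : Set X.left) →
      Nonempty (CohIII.fiberMod (snd C X).left Λ w ≅ Coh.structureModule ((snd C X).left.fiber w)) := by
    intro w hw
    obtain ⟨x, rfl⟩ := Groth.L08.Cube.exists_kpt w hw
    rw [Groth.L08.Cube.fiber_trivial_iff_slice, Groth.L08.Cube.nonempty_iso_structure_iff]
    show PicF.pullCl (Groth.L08.Cube.slice C x).left (PicF.cl Λ) = 1
    rw [hΛc, ← pb_val, h x]
    rfl
  have hall : ∀ w, Nonempty (CohIII.fiberMod (snd C X).left Λ w ≅ Coh.structureModule ((snd C X).left.fiber w)) :=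
    fun w => Groth.L08.Cube.trivial_on_fibres_of_mem_closure (snd C X).left Λ hΛ (S := closedPoints X.left)
      (fun v hv => hclosed v (mem_closedPoints_iff.1 hv)) w (by rw [closure_closedPoints]; trivial)
  obtain ⟨θ₀⟩ : Nonempty ((Scheme.Modules.pullback (lift (toUnit X ≫ c₀) (𝟙 X)).left).obj Λ ≅
      Coh.structureModule X.left) := by
    refine (Groth.L08.Cube.nonempty_iso_structure_iff _).2 ?_
    show PicF.pullCl (lift (toUnit X ≫ c₀) (𝟙 X)).left (PicF.cl Λ) = 1
    rw [hΛc, ← pb_val, h0]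
    rfl
  refine ext_val ?_
  rw [← hΛc]
  exact (Groth.L08.Cube.nonempty_iso_structure_iff _).1
    (Groth.L08.Cube.nonempty_iso_of_trivial_on_fibres (snd C X).left (lift (toUnit X ≫ c₀) (𝟙 X)).left
      (by rw [← Over.comp_left, lift_snd]; rfl) Λ hΛ hall θ₀)

/-- Two pairings agreeing against rational points agree. -/
theorem bil_eq_of_points [IsAlgClosed k] (M : A.left.Modules) (hM : PicF.IsInvertible M)
    (p q α β : A ⟶ A) [IsMonHom p] [IsMonHom α] (m n : ℕ)
    (h : ∀ x : 𝟙_ (Over (Spec (CommRingCat.of k))) ⟶ A,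
      m • bil M hM p (toUnit A ≫ x ≫ q) = n • bil L hL α (toUnit A ≫ x ≫ β))
    {W : Over (Spec (CommRingCat.of k))} (f g : W ⟶ A) :
    m • bil M hM (f ≫ p) (g ≫ q) = n • bil L hL (f ≫ α) (g ≫ β) := by
  haveI : IsIntegral A.left := GeometricallyIntegral.isIntegral_of_subsingleton A.hom
  have key : m • bil M hM (fst A A ≫ p) (snd A A ≫ q) = n • bil L hL (fst A A ≫ α) (snd A A ≫ β) := by
    refine sub_eq_zero.1 (eq_zero_of_slices η[A] _ (fun x => ?_) ?_)
    · rw [map_sub, map_nsmul, map_nsmul, pb_bil, pb_bil, lift_fst_assoc, lift_snd_assoc, lift_fst_assoc,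
        lift_snd_assoc, Category.id_comp, Category.id_comp, Category.assoc, Category.assoc, h x, sub_self]
    · rw [map_sub, map_nsmul, map_nsmul, pb_bil, pb_bil, lift_fst_assoc, lift_snd_assoc, lift_fst_assoc,
        lift_snd_assoc, ← Hom.one_def, MonObj.one_comp, MonObj.one_comp, bil_one_left, bil_one_left,
        smul_zero, smul_zero, sub_self]
  have h1 := congrArg (pb (lift f g)) key
  rwa [map_nsmul, map_nsmul, pb_bil, pb_bil, lift_fst_assoc, lift_snd_assoc, lift_fst_assoc, lift_snd_assoc] at h1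

theorem F_translate (x : 𝟙_ (Over (Spec (CommRingCat.of k))) ⟶ A) :
    F L hL (𝟙 A * (toUnit A ≫ x)) = F L hL (𝟙 A) + bil L hL (𝟙 A) (toUnit A ≫ x) := by
  rw [F_mul, F_const, add_zero]

/-- The meaning of `φ_L(ρ x) = α^* φ_{L^n}(x)`. -/
theorem adjoint_of_points [IsAlgClosed k] (α ρ : A ⟶ A) [IsMonHom α] (n : ℕ)
    (h : ∀ x : (𝟙_ (Over (Spec (CommRingCat.of k))) ⟶ A), Nonempty (CohB1.tensorMod ((Scheme.Modules.pullback ((𝟙 A * (toUnit A ≫ x ≫ ρ))).left).obj (L)) ((Scheme.Modules.pullback α.left).obj (CohB1.tensorPow L n)) ≅ CohB1.tensorMod (L) ((Scheme.Modules.pullback α.left).obj ((Scheme.Modules.pullback ((𝟙 A * (toUnit A ≫ x))).left).obj (CohB1.tensorPow L n)))))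
    {W : Over (Spec (CommRingCat.of k))} (f g : W ⟶ A) :
    bil L hL f (g ≫ ρ) = n • bil L hL (f ≫ α) g := by
  have h2 := bil_eq_of_points L hL L hL (𝟙 A) ρ α (𝟙 A) 1 n (fun x => ?_) f g
  · rwa [one_smul, Category.comp_id, Category.comp_id] at h2
  rw [one_smul, Category.comp_id]
  have hval : F L hL (𝟙 A * (toUnit A ≫ x ≫ ρ)) + n • F L hL α =
      F L hL (𝟙 A) + n • F L hL (α ≫ (𝟙 A * (toUnit A ≫ x))) := by
    have e := (PicGrp.cl_eq_cl_iff _ _).2 (h x)
    refine ext_val ?_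
    show (F L hL _).toMul.1 * (n • F L hL _).toMul.1 = (F L hL _).toMul.1 * (n • F L hL _).toMul.1
    rw [val_nsmul, val_nsmul, val_F_id]
    refine Eq.trans ?_ (e.trans ?_)
    · show _ = PicF.pullCl _ (PicF.cl L) * PicF.pullCl α.left (PicF.cl (CohB1.tensorPow L n))
      rw [Groth.L08.Cube.cl_tensorPow]
      exact congrArg (_ * ·) (map_pow (⟨⟨PicF.pullCl α.left, Groth.L08.Cube.pullCl_one _⟩,
        Groth.L08.Cube.pullCl_mul _⟩ : PicF.Cl A.left →* PicF.Cl A.left) (PicF.cl L) n).symm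
    · show PicF.cl L * PicF.pullCl α.left (PicF.pullCl _ (PicF.cl (CohB1.tensorPow L n))) = _
      rw [Groth.L08.Cube.cl_tensorPow, ← PicLoc.pullCl_comp, ← Over.comp_left]
      exact congrArg (_ * ·) (map_pow (⟨⟨PicF.pullCl (α ≫ (𝟙 A * (toUnit A ≫ x))).left, Groth.L08.Cube.pullCl_one _⟩,
        Groth.L08.Cube.pullCl_mul _⟩ : PicF.Cl A.left →* PicF.Cl A.left) (PicF.cl L) n)
  have hc : α ≫ (𝟙 A * (toUnit A ≫ x)) = α * (toUnit A ≫ x) := by
    rw [MonObj.comp_mul, Category.comp_id, ← Category.assoc, toUnit_unique (α ≫ toUnit A) (toUnit A)]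
  rw [hc, F_translate, F_mul L hL α, F_const, add_zero, smul_add] at hval
  refine sub_eq_zero.1 ?_
  rw [← sub_eq_zero] at hval
  rw [← hval]
  abel

/-- The meaning of `φ_M(x) = φ_{L^m}(γ x)`. -/
theorem rep_of_points [IsAlgClosed k] (M : A.left.Modules) (hM : PicF.IsInvertible M) (γ : A ⟶ A) (m : ℕ)
    (h : ∀ x : (𝟙_ (Over (Spec (CommRingCat.of k))) ⟶ A), Nonempty (CohB1.tensorMod ((Scheme.Modules.pullback ((𝟙 A * (toUnit A ≫ x))).left).obj (M)) (CohB1.tensorPow L m) ≅ CohB1.tensorMod (M) ((Scheme.Modules.pullback ((𝟙 A * (toUnit A ≫ x ≫ γ))).left).obj (CohB1.tensorPow L m))))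
    {W : Over (Spec (CommRingCat.of k))} (f g : W ⟶ A) :
    bil M hM f g = m • bil L hL f (g ≫ γ) := by
  have h2 := bil_eq_of_points L hL M hM (𝟙 A) (𝟙 A) (𝟙 A) γ 1 m (fun x => ?_) f g
  · rwa [one_smul, Category.comp_id, Category.comp_id] at h2
  rw [one_smul, Category.comp_id]
  have hval : F M hM (𝟙 A * (toUnit A ≫ x)) + m • F L hL (𝟙 A) =
      F M hM (𝟙 A) + m • F L hL (𝟙 A * (toUnit A ≫ x ≫ γ)) := by
    have e := (PicGrp.cl_eq_cl_iff _ _).2 (h x)
    refine ext_val ?_
    show (F M hM _).toMul.1 * (m • F L hL _).toMul.1 = (F M hM _).toMul.1 * (m • F L hL _).toMul.1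
    rw [val_nsmul, val_nsmul, val_F_id, val_F_id]
    refine Eq.trans ?_ (e.trans ?_)
    · show _ = PicF.pullCl _ (PicF.cl M) * PicF.cl (CohB1.tensorPow L m)
      rw [Groth.L08.Cube.cl_tensorPow]
      rfl
    · show PicF.cl M * PicF.pullCl _ (PicF.cl (CohB1.tensorPow L m)) = _
      rw [Groth.L08.Cube.cl_tensorPow]
      exact congrArg (_ * ·) (map_pow (⟨⟨PicF.pullCl _, Groth.L08.Cube.pullCl_one _⟩,
        Groth.L08.Cube.pullCl_mul _⟩ : PicF.Cl A.left →* PicF.Cl A.left) (PicF.cl L) m)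
  rw [F_translate, F_translate, smul_add] at hval
  refine sub_eq_zero.1 ?_
  rw [← sub_eq_zero] at hval
  rw [← hval]
  abel

/-- Back to points. -/
theorem points_of_rep (M : A.left.Modules) (hM : PicF.IsInvertible M) (γ : A ⟶ A) (m : ℕ)
    (h : ∀ f g : A ⟶ A, bil M hM f g = m • bil L hL f (g ≫ γ))
    (x : 𝟙_ (Over (Spec (CommRingCat.of k))) ⟶ A) :
    Nonempty (CohB1.tensorMod ((Scheme.Modules.pullback ((𝟙 A * (toUnit A ≫ x))).left).obj (M)) (CohB1.tensorPow L m) ≅ CohB1.tensorMod (M) ((Scheme.Modules.pullback ((𝟙 A * (toUnit A ≫ x ≫ γ))).left).obj (CohB1.tensorPow L m))) := by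
  have hval : F M hM (𝟙 A * (toUnit A ≫ x)) + m • F L hL (𝟙 A) =
      F M hM (𝟙 A) + m • F L hL (𝟙 A * (toUnit A ≫ x ≫ γ)) := by
    rw [F_translate, F_translate, smul_add, h, Category.assoc]
    abel
  refine (PicGrp.cl_eq_cl_iff _ _).1 ?_
  have e := congrArg (fun z => (Additive.toMul z).1) hval
  change (F M hM _).toMul.1 * (m • F L hL _).toMul.1 = (F M hM _).toMul.1 * (m • F L hL _).toMul.1 at e
  rw [val_nsmul, val_nsmul, val_F_id, val_F_id] at e
  refine Eq.trans ?_ (e.trans ?_)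
  · show PicF.pullCl _ (PicF.cl M) * PicF.cl (CohB1.tensorPow L m) = _
    rw [Groth.L08.Cube.cl_tensorPow]
    rfl
  · show _ = PicF.cl M * PicF.pullCl _ (PicF.cl (CohB1.tensorPow L m))
    rw [Groth.L08.Cube.cl_tensorPow]
    exact congrArg (_ * ·) (map_pow (⟨⟨PicF.pullCl _, Groth.L08.Cube.pullCl_one _⟩,
      Groth.L08.Cube.pullCl_mul _⟩ : PicF.Cl A.left →* PicF.Cl A.left) (PicF.cl L) m).symm

/-- A symmetric ample class with twice the pairing. -/
theorem exists_symm (hamp : CohB1.IsAmple L) :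
    ∃ (L' : A.left.Modules) (hL' : CohB1.IsAmple L'),
      Groth.L08.Cube.pc L' (𝟙 A)⁻¹ = Groth.L08.Cube.pc L' (𝟙 A) ∧
      ∀ {W : Over (Spec (CommRingCat.of k))} (f g : W ⟶ A), bil L' hL'.1 f g = 2 • bil L hamp.1 f g := by
  have hι : (𝟙 A)⁻¹ ≫ (𝟙 A)⁻¹ = 𝟙 A := by simp [GrpObj.comp_inv]
  haveI : IsIso (𝟙 A)⁻¹ := ⟨⟨(𝟙 A)⁻¹, hι, hι⟩⟩
  haveI : IsIso ((𝟙 A)⁻¹ : A ⟶ A).left := inferInstanceAs (IsIso ((Over.forget _).map (𝟙 A)⁻¹))
  let L' := CohB1.tensorMod L ((Scheme.Modules.pullback ((𝟙 A)⁻¹ : A ⟶ A).left).obj L)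
  have hL' : CohB1.IsAmple L' := Groth.L18.Ample.isAmple_tensor hamp
    (Groth.L18.Ample.isAmple_pullback_of_isAffineHom ((𝟙 A)⁻¹ : A ⟶ A).left hamp)
  have hF : ∀ {W : Over (Spec (CommRingCat.of k))} (φ : W ⟶ A),
      F L' hL'.1 φ = F L hamp.1 φ + F L hamp.1 φ⁻¹ := fun {W} φ => ext_val (by
    show PicF.pullCl φ.left (PicF.cl L * PicF.pullCl ((𝟙 A)⁻¹ : A ⟶ A).left (PicF.cl L)) =
      PicF.pullCl φ.left (PicF.cl L) * PicF.pullCl (φ⁻¹ : W ⟶ A).left (PicF.cl L)
    rw [Groth.L08.Cube.pullCl_mul, ← PicLoc.pullCl_comp, ← Over.comp_left, GrpObj.comp_inv, Category.comp_id])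
  refine ⟨L', hL', ?_, fun {W} f g => ?_⟩
  · have e := congrArg (fun z => (Additive.toMul z).1) ((hF (𝟙 A)⁻¹).trans (by rw [inv_inv, add_comm, ← hF]))
    exact e
  · show F L' hL'.1 (f * g) - F L' hL'.1 f - F L' hL'.1 g = _
    rw [hF, hF, hF, mul_inv, two_smul]
    have e1 := F_mul L hamp.1 f g
    have e2 := F_mul L hamp.1 f⁻¹ g⁻¹
    rw [bil_inv_left, bil_inv_right, neg_neg] at e2
    rw [e1, e2]
    abel

/-! ### The trace -/

local instance overA : A.left.Over (Spec (CommRingCat.of k)) := ⟨A.hom⟩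
local instance : IsProper (A.left ↘ Spec (CommRingCat.of k)) := inferInstanceAs (IsProper A.hom)

open Groth.L22.Inter InterPic

variable {g : ℕ} (hA : topologicalKrullDim A.left = g)

/-- The trace of a class against the polarization. -/
def tr : Additive (PicLoc.PicSet A.left) →+ ℚ :=
  AddMonoidHom.mk' (fun B => (∑ i, inter k hA.le (Function.update (fun _ : Fin g => F L hL (𝟙 A)) i B)) /
    altT k (fun _ : Fin g => L) (Coh.structureModule A.left)) fun a b => by
    simp only [MultilinearMap.map_update_add, Finset.sum_add_distrib, add_div]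

theorem sum_tup {g : ℕ} (r : Fin g → Fin 3) (h : ∑ i, (r i : ℕ) = 2 * g - 1) (hg : 1 ≤ g) :
    ∃ i, r = Function.update (fun _ => (2 : Fin 3)) i 1 := by
  have h2 : ∑ i, (2 - (r i : ℕ)) = 1 := by
    have : ∑ i, (2 - (r i : ℕ)) + ∑ i, (r i : ℕ) = 2 * g := by
      rw [← Finset.sum_add_distrib, Finset.sum_congr rfl fun i _ => show 2 - (r i : ℕ) + (r i : ℕ) = 2 from by omega]
      simp [mul_comm]
    omega
  obtain ⟨i, -, hi⟩ := Finset.exists_ne_zero_of_sum_ne_zero (h2.symm ▸ one_ne_zero : ∑ i, (2 - (r i : ℕ)) ≠ 0)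
  rw [← Finset.add_sum_erase _ _ (Finset.mem_univ i)] at h2
  have h3 : ∑ j ∈ Finset.univ.erase i, (2 - (r j : ℕ)) = 0 := by omega
  refine ⟨i, funext fun j => Fin.ext ?_⟩
  rcases eq_or_ne j i with rfl | hj
  · rw [Function.update_self]
    show (r j : ℕ) = 1
    omega
  · rw [Function.update_of_ne hj]
    have := Finset.sum_eq_zero_iff.1 h3 j (Finset.mem_erase.2 ⟨hj, Finset.mem_univ j⟩)
    show (r j : ℕ) = 2
    omega

variable (hamp : CohB1.IsAmple L) (hsym : Groth.L08.Cube.pc L (𝟙 A)⁻¹ = Groth.L08.Cube.pc L (𝟙 A))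
include hamp hsym

/-- The coefficient of degree `2g - 1` of the characteristic polynomial is the trace. -/
theorem coeff_eq (hg : 1 ≤ g) (γ : EndAV.End A) (P : Polynomial ℚ)
    (hP : ∀ j : ℤ, (IsFinite (EndAV.End.toHom (γ + (j : EndAV.End A))).left →
          ∀ a : A.left, (Scheme.Hom.finrank (EndAV.End.toHom (γ + (j : EndAV.End A))).left a : ℚ) = P.eval (j : ℚ)) ∧
        (¬ IsFinite (EndAV.End.toHom (γ + (j : EndAV.End A))).left → P.eval (j : ℚ) = 0)) :
    P.coeff (2 * g - 1) = tr L hL hA (bil L hL γ.toHom (𝟙 A)) := by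
  classical
  haveI : IsIntegral A.left := GeometricallyIntegral.isIntegral_of_subsingleton A.hom
  let e := altT k (fun _ : Fin g => L) (Coh.structureModule A.left)
  have he : e ≠ 0 := (DegreeForm.altT_pos L hamp hA).ne'
  let c : Fin 3 → Additive (PicLoc.PicSet A.left) :=
    ![(2 : ℤ) • F L hL γ.toHom, (2 : ℤ) • bil L hL γ.toHom (𝟙 A), (2 : ℤ) • F L hL (𝟙 A)]
  let Q : Polynomial ℚ := ∑ r : Fin g → Fin 3,
    Polynomial.C (inter k hA.le (fun i => c (r i))) * Polynomial.X ^ (∑ i, (r i : ℕ))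
  have hQ : Q = Polynomial.C ((2 : ℚ) ^ g * e) * P := by
    refine Polynomial.eq_of_infinite_eval_eq _ _ (Set.Infinite.mono (s := Set.range fun j : ℤ => (j : ℚ)) ?_
      (Set.infinite_range_of_injective Int.cast_injective))
    rintro _ ⟨j, rfl⟩
    show Polynomial.eval _ Q = _
    let φ := EndAV.End.toHom (γ + (j : EndAV.End A))
    have hφ : φ = γ.toHom * 𝟙 A ^ j := by
      show EndAV.End.toHom _ = _
      rw [EndAV.End.toHom_add, EndAV.End.toHom_intCast]
    have hdeg : P.eval (j : ℚ) = deg L hL hA φ := by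
      by_cases hf : IsFinite φ.left
      · obtain ⟨a⟩ : Nonempty A.left := inferInstance
        rw [← (hP j).1 hf a]
        exact deg_of_isFinite L hL hamp hA hA φ hf a
      · rw [(hP j).2 hf]
        exact (deg_of_not_isFinite L hL hamp hA hA φ hf).symm
    have hz : ∀ (x y : A ⟶ A) (m : ℤ), bil L hL x (y ^ m) = m • bil L hL x y := fun x y m => by
      unfold Orth.bil
      rw [ofMul_zpow, map_zsmul]
    have hF : (2 : ℤ) • F L hL φ = ∑ t : Fin 3, j ^ (t : ℕ) • c t := by
      rw [← Bil_self L hL hsym]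
      show bil L hL φ φ = _
      rw [hφ, bil_mul_left, bil_mul_right, bil_mul_right, hz, Adjoint.bil_comm L hL (𝟙 A ^ j) γ.toHom, hz, hz,
        Adjoint.bil_comm L hL (𝟙 A ^ j) (𝟙 A), hz,
        show bil L hL γ.toHom γ.toHom = _ from Bil_self L hL hsym γ.toHom,
        show bil L hL (𝟙 A) (𝟙 A) = _ from Bil_self L hL hsym (𝟙 A)]
      simp only [Fin.sum_univ_three, c, Matrix.cons_val_zero, Matrix.cons_val_one, Matrix.cons_val_two,
        Matrix.tail_cons, Matrix.head_cons, Fin.val_zero, Fin.val_one, Fin.val_two, pow_zero, one_smul, pow_one]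
      module
    have h1 := inter_zsmul k hA.le (2 : ℤ) (F L hL φ)
    rw [hF, inter_sum k hA.le] at h1
    push_cast at h1
    rw [Polynomial.eval_finsetSum, Polynomial.eval_mul, Polynomial.eval_C, hdeg, deg,
      mul_assoc, mul_div_cancel₀ _ he]
    refine Eq.trans (Finset.sum_congr rfl fun r _ => ?_) h1
    rw [Polynomial.eval_mul, Polynomial.eval_C, Polynomial.eval_pow, Polynomial.eval_X,
      ← Finset.prod_pow_eq_pow_sum, mul_comm]
  have h2 : Q.coeff (2 * g - 1) = (2 : ℚ) ^ g * e * P.coeff (2 * g - 1) := by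
    rw [hQ, Polynomial.coeff_C_mul]
  have h3 : Q.coeff (2 * g - 1) =
      ∑ i, inter k hA.le (fun l => c (Function.update (fun _ : Fin g => (2 : Fin 3)) i 1 l)) := by
    simp only [Q, Polynomial.finsetSum_coeff, Polynomial.coeff_C_mul, Polynomial.coeff_X_pow, mul_ite, mul_one,
      mul_zero, ← Finset.sum_filter]
    symm
    refine Finset.sum_bij (fun i _ => Function.update (fun _ => (2 : Fin 3)) i 1) (fun i _ => ?_) (fun i _ i' _ h => ?_)
      (fun r hr => ?_) (fun i _ => rfl)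
    · refine Finset.mem_filter.2 ⟨Finset.mem_univ _, ?_⟩
      rw [← Finset.add_sum_erase _ _ (Finset.mem_univ i), Function.update_self, Finset.sum_congr rfl (g := fun _ => 2)
        fun j hj => by rw [Function.update_of_ne (Finset.mem_erase.1 hj).1]; rfl, Finset.sum_const,
        Finset.card_erase_of_mem (Finset.mem_univ i), Finset.card_univ, Fintype.card_fin]
      show 2 * g - 1 = 1 + (g - 1) • 2
      rw [smul_eq_mul]
      omega
    · by_contra hne
      have := congrFun h i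
      rw [Function.update_self, Function.update_of_ne hne] at this
      exact absurd this (by decide)
    · obtain ⟨i, hi⟩ := sum_tup r (Finset.mem_filter.1 hr).2.symm hg
      exact ⟨i, Finset.mem_univ i, hi.symm⟩
  have h4 : ∀ i, inter k hA.le (fun l => c (Function.update (fun _ : Fin g => (2 : Fin 3)) i 1 l)) =
      (2 : ℚ) ^ g * inter k hA.le (Function.update (fun _ : Fin g => F L hL (𝟙 A)) i (bil L hL γ.toHom (𝟙 A))) := by
    intro i
    have e1 : (fun l => c (Function.update (fun _ : Fin g => (2 : Fin 3)) i 1 l)) =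
        fun l => (2 : ℤ) • Function.update (fun _ : Fin g => F L hL (𝟙 A)) i (bil L hL γ.toHom (𝟙 A)) l := funext fun l => by
      rcases eq_or_ne l i with rfl | hl
      · rw [Function.update_self, Function.update_self]; rfl
      · rw [Function.update_of_ne hl, Function.update_of_ne hl]; rfl
    rw [e1, MultilinearMap.map_smul_univ, Finset.prod_const, Finset.card_univ, Fintype.card_fin, zsmul_eq_mul]
    push_cast
    rfl
  rw [h2, Finset.sum_congr rfl fun i _ => h4 i, ← Finset.mul_sum] at h3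
  show _ = _ / e
  rw [eq_div_iff he]
  refine mul_left_cancel₀ (pow_ne_zero g (two_ne_zero (α := ℚ))) ?_
  rw [← h3]
  ring

end Groth.Agent.Poincare.Rosati
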