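import Groth.Agent.L26.Poincare.Adjoint
import Groth.Agent.L26.AV.SimpleDomain
import Groth.Agent.S4643

/-!
# Products of abelian varieties, homomorphisms out of simple ones
-/

set_option autoImplicit false
set_option linter.style.haveILetI false
set_option linter.unusedSectionVars false
set_option backward.isDefEq.respectTransparency false

universe u

open CategoryTheory CategoryTheory.Limits MonoidalCategory CartesianMonoidalCategory AlgebraicGeometry
open scoped MonObj

noncomputable section

namespace Groth.Agent.Poincare.Product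

open Groth.Agent.AV

variable {k : Type u} [Field k]

/-- A geometrically integral scheme of dimension zero has one point. -/
theorem subsingleton_of_dim_zero (C : Over (Spec (CommRingCat.of k))) [GeometricallyIntegral C.hom]
    (h : topologicalKrullDim C.left = 0) : Subsingleton C.left := by
  haveI : IsIntegral C.left := GeometricallyIntegral.isIntegral_of_subsingleton C.hom
  rw [Groth.L19.topologicalKrullDim_eq_krullDim] at h
  let _ := specializationOrder C.left
  refine subsingleton_of_forall_eq (genericPoint C.left) fun x => by_contra fun hx => ?_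
  have h0 : x < genericPoint C.left := lt_of_le_of_ne ((genericPoint_spec C.left).specializes trivial) hx
  let s : LTSeries C.left := (RelSeries.singleton _ x).snoc (genericPoint C.left) h0
  have h1 := Order.LTSeries.length_le_krullDim s
  rw [h] at h1
  have h2 : ((1 : ℕ) : WithBot ℕ∞) ≤ (0 : ℕ) := by simpa [s] using h1
  exact absurd (by exact_mod_cast h2 : (1 : ℕ) ≤ 0) (by omega)

variable {X Y : Over (Spec (CommRingCat.of k))}
  [GrpObj X] [IsCommMonObj X] [IsProper X.hom] [GeometricallyIntegral X.hom]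
  [GrpObj Y] [IsCommMonObj Y] [IsProper Y.hom] [GeometricallyIntegral Y.hom]

/-- A nonzero homomorphism has a nonzero composite back to the source. -/
theorem exists_comp_ne_one (a : X ⟶ Y) [IsMonHom a] (ha : a ≠ 1) :
    ∃ g : Y ⟶ X, IsMonHom g ∧ a ≫ g ≠ 1 := by
  obtain ⟨hPp, hPg⟩ := Adjoint.prod_instances X Y
  haveI := hPp
  haveI := hPg
  haveI : IsMonHom (lift (1 : X ⟶ X) a) := by
    haveI : IsMonHom (1 : X ⟶ X) := by
      have h := EndAV.Hom.isMonHom_toHom (0 : EndAV.Hom X X)
      rwa [EndAV.Hom.toHom_zero] at h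
    infer_instance
  let a' : EndAV.End (X ⊗ Y) := EndAV.End.of (fst X Y ≫ lift (1 : X ⟶ X) a)
  have ha' : a' ≠ 0 := fun h0 => ha (by
    have h1 := congrArg (fun φ : EndAV.End (X ⊗ Y) => lift (𝟙 X) (1 : X ⟶ Y) ≫ φ.toHom ≫ snd X Y) h0
    simp only [a', EndAV.End.toHom_of, EndAV.End.toHom_zero] at h1
    rw [Category.assoc, lift_snd, lift_fst_assoc, Category.id_comp, MonObj.one_comp, MonObj.comp_one] at h1
    exact h1)
  obtain ⟨L, hamp⟩ := Degree.exists_isAmple (X ⊗ Y)
  obtain ⟨x, hx⟩ := Adjoint.exists_not_nilpotent L hamp a' ha'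
  haveI : IsMonHom (1 : Y ⟶ X) := by
    have h := EndAV.Hom.isMonHom_toHom (0 : EndAV.Hom Y X)
    rwa [EndAV.Hom.toHom_zero] at h
  refine ⟨lift (1 : Y ⟶ X) (𝟙 Y) ≫ x.toHom ≫ fst X Y, inferInstance, fun h => hx ⟨2, ?_⟩⟩
  have hla : lift (1 : X ⟶ X) a = a ≫ lift (1 : Y ⟶ X) (𝟙 Y) := by
    rw [comp_lift, MonObj.comp_one, Category.comp_id]
  rw [pow_two]
  refine EndAV.End.ext ?_
  rw [EndAV.End.toHom_mul, EndAV.End.toHom_mul, EndAV.End.toHom_of, EndAV.End.toHom_zero, hla]
  simp only [Category.assoc]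
  rw [reassoc_of% h, MonObj.one_comp, MonObj.comp_one]

/-- A nonzero homomorphism out of a simple abelian variety is finite. -/
theorem isFinite_of_ne_one
    (hsimple : ∀ (B : Over (Spec (CommRingCat.of k))) [GrpObj B] [GeometricallyIntegral B.hom] (i : B ⟶ X) [IsMonHom i]
      [IsClosedImmersion i.left], Subsingleton B.left ∨ IsIso i)
    (a : X ⟶ Y) [IsMonHom a] (ha : a ≠ 1) : IsFinite a.left := by
  obtain ⟨g, hg, hne⟩ := exists_comp_ne_one a ha
  haveI := hg
  obtain ⟨h1, -, -⟩ := SimpleDomain.isogeny_of_ne_zero hsimple (EndAV.End.of (a ≫ g)) fun h0 => hne (by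
    have := congrArg EndAV.End.toHom h0
    rwa [EndAV.End.toHom_of, EndAV.End.toHom_zero] at this)
  rw [EndAV.End.toHom_of, Over.comp_left] at h1
  haveI := h1
  haveI : IsSeparated (g.left ≫ X.hom) := by rw [Over.w]; infer_instance
  haveI : IsSeparated g.left := IsSeparated.of_comp g.left X.hom
  exact IsFinite.of_comp a.left g.left

/-- A nonzero homomorphism between simple abelian varieties is an isogeny. -/
theorem isogeny_of_simple
    (hX : ∀ (B : Over (Spec (CommRingCat.of k))) [GrpObj B] [GeometricallyIntegral B.hom] (i : B ⟶ X) [IsMonHom i]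
      [IsClosedImmersion i.left], Subsingleton B.left ∨ IsIso i)
    (hY : ∀ (B : Over (Spec (CommRingCat.of k))) [GrpObj B] [GeometricallyIntegral B.hom] (i : B ⟶ Y) [IsMonHom i]
      [IsClosedImmersion i.left], Subsingleton B.left ∨ IsIso i)
    (a : X ⟶ Y) [IsMonHom a] (ha : a ≠ 1) : IsFinite a.left ∧ Surjective a.left := by
  refine ⟨isFinite_of_ne_one hX a ha, ?_⟩
  obtain ⟨C, gC, i, p, hi, hic, hCp, hCg, hps, hpi, hpm⟩ := exists_image a
  letI := gC
  haveI := hi
  haveI := hic
  haveI := hps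
  rcases hY C i with hsub | hiso
  · refine absurd ?_ ha
    rw [← hpi, ← Category.id_comp i, HomFin.id_eq_one_of_subsingleton C, MonObj.one_comp i, MonObj.comp_one]
  haveI : IsIso i.left := inferInstanceAs (IsIso ((Over.forget _).map i))
  rw [← hpi, Over.comp_left]
  infer_instance

/-- A finite product of abelian varieties. -/
theorem exists_pi {J : Type} [DecidableEq J] (Z : J → Over (Spec (CommRingCat.of k))) [∀ t, GrpObj (Z t)]
    [∀ t, IsCommMonObj (Z t)] [∀ t, IsProper (Z t).hom] [∀ t, GeometricallyIntegral (Z t).hom]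
    (d : J → ℕ) (hd : ∀ t, topologicalKrullDim (Z t).left = d t) (s : Finset J) :
    ∃ (P : Over (Spec (CommRingCat.of k))) (_ : GrpObj P) (pr : ∀ t ∈ s, P ⟶ Z t),
      IsCommMonObj P ∧ IsProper P.hom ∧ GeometricallyIntegral P.hom ∧
      topologicalKrullDim P.left = ((∑ t ∈ s, d t : ℕ) : WithBot ℕ∞) ∧ (∀ t ht, IsMonHom (pr t ht)) ∧
      (∀ (T : Over (Spec (CommRingCat.of k))) (f : ∀ t ∈ s, T ⟶ Z t), ∃ φ : T ⟶ P, ∀ t ht, φ ≫ pr t ht = f t ht) ∧
      ∀ (T : Over (Spec (CommRingCat.of k))) (φ ψ : T ⟶ P), (∀ t ht, φ ≫ pr t ht = ψ ≫ pr t ht) → φ = ψ := by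
  induction s using Finset.induction with
  | empty =>
    refine ⟨𝟙_ _, inferInstance, fun t ht => absurd ht (Finset.notMem_empty t), inferInstance, ?_, ?_, ?_,
      fun t ht => absurd ht (Finset.notMem_empty t),
      fun T f => ⟨toUnit T, fun t ht => absurd ht (Finset.notMem_empty t)⟩, fun T φ ψ _ => toUnit_unique φ ψ⟩
    · exact inferInstanceAs (IsProper (𝟙 (Spec (CommRingCat.of k))))
    · haveI : GeometricallyReduced (𝟙_ (Over (Spec (CommRingCat.of k)))).hom := by
        haveI : Smooth (𝟙_ (Over (Spec (CommRingCat.of k)))).hom := inferInstanceAs (Smooth (𝟙 (Spec (CommRingCat.of k))))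
        exact Groth.Agent.AV.geometricallyReduced_of_smooth _
      haveI : ConnectedSpace (𝟙_ (Over (Spec (CommRingCat.of k)))).left :=
        inferInstanceAs (ConnectedSpace (PrimeSpectrum k))
      haveI : LocallyOfFiniteType (𝟙_ (Over (Spec (CommRingCat.of k)))).hom := inferInstanceAs (LocallyOfFiniteType (𝟙 (Spec (CommRingCat.of k))))
      exact Groth.Agent.AV.geometricallyIntegral_of_connected _
    · show topologicalKrullDim (PrimeSpectrum k) = _
      rw [PrimeSpectrum.topologicalKrullDim_eq_ringKrullDim, ringKrullDim_eq_zero_of_field]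
      simp
  | insert a s has ih =>
    obtain ⟨P, gP, pr, hc, hp, hg, hdim, hm, hlift, hext⟩ := ih
    letI := gP
    haveI := hc
    haveI := hp
    haveI := hg
    obtain ⟨hPp, hPg⟩ := Adjoint.prod_instances (Z a) P
    let pr' : ∀ t ∈ insert a s, Z a ⊗ P ⟶ Z t := fun t ht =>
      if h : t = a then fst (Z a) P ≫ eqToHom (congrArg Z h.symm)
      else snd (Z a) P ≫ pr t ((Finset.mem_insert.1 ht).resolve_left h)
    have hpra : ∀ ha, pr' a ha = fst (Z a) P := fun ha => by
      simp only [pr', dif_pos, eqToHom_refl, Category.comp_id]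
    have hprs : ∀ t (ht : t ∈ s), pr' t (Finset.mem_insert_of_mem ht) = snd (Z a) P ≫ pr t ht := fun t ht => by
      simp only [pr']
      rw [dif_neg (fun h : t = a => has (h ▸ ht))]
    refine ⟨Z a ⊗ P, inferInstance, pr', inferInstance, hPp, hPg, ?_, fun t ht => ?_, fun T f => ?_, fun T φ ψ h => ?_⟩
    · rw [Finset.sum_insert has, Nat.cast_add, ← hd a, ← hdim]
      exact Groth.Agent.S4643.result (Z a).hom P.hom
    · rcases Finset.mem_insert.1 ht with rfl | hts
      · rw [hpra ht]
        infer_instance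
      · rw [hprs t hts]
        haveI := hm t hts
        infer_instance
    · obtain ⟨φ, hφ⟩ := hlift T fun t ht => f t (Finset.mem_insert_of_mem ht)
      refine ⟨lift (f a (Finset.mem_insert_self a s)) φ, fun t ht => ?_⟩
      rcases Finset.mem_insert.1 ht with rfl | hts
      · rw [hpra ht, lift_fst]
      · rw [hprs t hts, lift_snd_assoc, hφ]
    · refine CartesianMonoidalCategory.hom_ext _ _ ?_ (hext T _ _ fun t ht => ?_)
      · simpa only [hpra] using h a (Finset.mem_insert_self a s)
      · simpa only [hprs t ht, Category.assoc] using h t (Finset.mem_insert_of_mem ht)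

open Groth.L08.Cube (kpt exists_kpt isClosed_kpt) in
/-- Homomorphisms with finite common kernel on points onto factors of total dimension `dim A` split up to multiplication. -/
theorem exists_sections [IsAlgClosed k] {A : Over (Spec (CommRingCat.of k))}
    [GrpObj A] [IsCommMonObj A] [IsProper A.hom] [GeometricallyIntegral A.hom]
    {J : Type} [DecidableEq J] [Fintype J] (Z : J → Over (Spec (CommRingCat.of k))) [∀ t, GrpObj (Z t)]
    [∀ t, IsCommMonObj (Z t)] [∀ t, IsProper (Z t).hom] [∀ t, GeometricallyIntegral (Z t).hom]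
    (d : J → ℕ) (hd : ∀ t, topologicalKrullDim (Z t).left = d t)
    (hA : topologicalKrullDim A.left = ((∑ t, d t : ℕ) : WithBot ℕ∞))
    (π : ∀ t : J, A ⟶ Z t) [∀ t, IsMonHom (π t)]
    (hker : Set.Finite {a : (𝟙_ (Over (Spec (CommRingCat.of k))) ⟶ A) | ∀ t, a ≫ π t = 1}) :
    ∃ (N : ℕ) (σ : ∀ t, Z t ⟶ A), 1 ≤ N ∧ (∀ t, IsMonHom (σ t)) ∧ (∀ t, σ t ≫ π t = 𝟙 (Z t) ^ N) ∧
      (∀ s t, s ≠ t → σ s ≫ π t = 1) ∧ ∏ t, π t ≫ σ t = 𝟙 A ^ N := by
  classical
  obtain ⟨P, gP, pr, hPc, hPp, hPg, hPd, hprm, hlift, hext⟩ := exists_pi Z d hd Finset.univ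
  letI := gP
  haveI := hPc
  haveI := hPp
  haveI := hPg
  haveI : ∀ t, IsMonHom (pr t (Finset.mem_univ t)) := fun t => hprm t _
  have hext' : ∀ {T : Over (Spec (CommRingCat.of k))} (φ ψ : T ⟶ P),
      (∀ t, φ ≫ pr t (Finset.mem_univ t) = ψ ≫ pr t (Finset.mem_univ t)) → φ = ψ :=
    fun φ ψ h => hext _ φ ψ fun t _ => h t
  obtain ⟨Φ, hΦ⟩ := hlift A fun t _ => π t
  haveI : IsMonHom Φ := Groth.Agent.AV.isMonHom_of_one Φ (hext' _ _ fun t => by
    rw [Category.assoc, hΦ t (Finset.mem_univ t), IsMonHom.one_hom, IsMonHom.one_hom])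
  haveI : IsProper (Φ.left ≫ P.hom) := by rw [Over.w]; infer_instance
  haveI : IsProper Φ.left := IsProper.of_comp Φ.left P.hom
  haveI : IsFinite Φ.left := by
    haveI : JacobsonSpace A.left := LocallyOfFiniteType.jacobsonSpace A.hom
    haveI : LocallyQuasiFinite Φ.left := by
      refine Φ.left.quasiFiniteLocus_eq_top_iff.1 ?_
      rw [eq_top_iff]
      intro x _
      by_contra hx
      obtain ⟨z, hz, hzc⟩ := nonempty_inter_closedPoints (X := A.left) (Z := (Φ.left.quasiFiniteLocus : Set A.left)ᶜ)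
        ⟨x, hx⟩ Φ.left.quasiFiniteLocus.2.isClosed_compl.isLocallyClosed
      refine hz ?_
      obtain ⟨a₀, ha₀⟩ := exists_kpt z hzc
      have hy : IsClosed ({Φ.left z} : Set P.left) := by
        rw [← Set.image_singleton]
        exact Φ.left.isClosedMap _ hzc
      have hinj : ∀ (u v : 𝟙_ (Over (Spec (CommRingCat.of k))) ⟶ P), kpt u = kpt v → u = v := fun u v huv => by
        have h := (pointEquivClosedPoint P.hom).injective (a₁ := ⟨u.left, Over.w u⟩) (a₂ := ⟨v.left, Over.w v⟩) (Subtype.ext huv)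
        exact Over.OverMorphism.ext (congrArg Subtype.val h)
      have hZfin : (Φ.left ⁻¹' {Φ.left z} ∩ closedPoints A.left).Finite := by
        refine (hker.image fun a => kpt (a * a₀)).subset ?_
        rintro w ⟨hw, hwc⟩
        obtain ⟨a, ha⟩ := exists_kpt w hwc
        have he : a ≫ Φ = a₀ ≫ Φ := hinj _ _ (by
          show Φ.left (kpt a) = Φ.left (kpt a₀)
          rw [ha, ha₀]
          exact hw)
        refine ⟨a * a₀⁻¹, fun t => ?_, ?_⟩
        · rw [← hΦ t (Finset.mem_univ t), ← Category.assoc, MonObj.mul_comp a a₀⁻¹ Φ, GrpObj.inv_comp, he,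
            mul_inv_cancel, MonObj.one_comp]
        · show kpt (a * a₀⁻¹ * a₀) = w
          rw [inv_mul_cancel_right, ha]
      have hZ : (Φ.left ⁻¹' {Φ.left z}).Finite := by
        have hcl := hy.preimage Φ.left.continuous
        have h1 : IsClosed (Φ.left ⁻¹' {Φ.left z} ∩ closedPoints A.left) := by
          rw [← Set.biUnion_of_singleton (Φ.left ⁻¹' {Φ.left z} ∩ closedPoints A.left)]
          exact hZfin.isClosed_biUnion fun w hw => hw.2
        have h2 := closure_inter_closedPoints hcl
        rw [h1.closure_eq] at h2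
        rwa [h2] at hZfin
      show Φ.left.QuasiFiniteAt z
      rw [Scheme.Hom.quasiFiniteAt_iff_isOpen_singleton_asFiber]
      haveI : Finite ↥(Φ.left.fiber (Φ.left z)) := by
        haveI := hZ.to_subtype
        exact Finite.of_injective _ (Φ.left.fiberHomeo (Φ.left z)).injective
      haveI : LocallyOfFiniteType (Φ.left.fiberToSpecResidueField (Φ.left z)) :=
        MorphismProperty.pullback_snd _ _ inferInstance
      haveI : JacobsonSpace ↥(Φ.left.fiber (Φ.left z)) :=
        LocallyOfFiniteType.jacobsonSpace (Φ.left.fiberToSpecResidueField (Φ.left z))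
      exact isOpen_discrete _
    exact IsFinite.of_isProper_of_locallyQuasiFinite _
  haveI : IsIntegral P.left := GeometricallyIntegral.isIntegral_of_subsingleton P.hom
  haveI : Surjective Φ.left := surjective_of_isFinite_of_dim_eq A P Φ (hA.trans hPd.symm)
  obtain ⟨g, N, hgm, hN, h1, h2⟩ := Reducibility.exists_inverse Φ
  haveI := hgm
  have hone : ∀ a b : J, IsMonHom (1 : Z a ⟶ Z b) := fun a b => by
    have h := EndAV.Hom.isMonHom_toHom (0 : EndAV.Hom (Z a) (Z b))
    rwa [EndAV.Hom.toHom_zero] at h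
  have hinc : ∀ s : J, ∃ i : Z s ⟶ P, IsMonHom i ∧ i ≫ pr s (Finset.mem_univ s) = 𝟙 _ ∧
      ∀ t, s ≠ t → i ≫ pr t (Finset.mem_univ t) = 1 := by
    intro s
    obtain ⟨i, hi⟩ := hlift (Z s) fun t _ => if h : s = t then eqToHom (congrArg Z h) else 1
    refine ⟨i, Groth.Agent.AV.isMonHom_of_one i (hext' _ _ fun t => ?_), ?_, fun t hst => ?_⟩
    · rw [Category.assoc, hi, IsMonHom.one_hom (f := pr t (Finset.mem_univ t))]
      by_cases h : s = t
      · subst h
        rw [dif_pos rfl, eqToHom_refl, Category.comp_id]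
      · rw [dif_neg h]
        exact (hone s t).one_hom
    · rw [hi, dif_pos rfl, eqToHom_refl]
    · rw [hi, dif_neg hst]
  choose inc hincm hincs hinct using hinc
  haveI := hincm
  refine ⟨N, fun t => inc t ≫ g, hN, fun t => inferInstance, fun t => ?_, fun s t hst => ?_, ?_⟩
  · rw [Category.assoc, ← hΦ t (Finset.mem_univ t), reassoc_of% h2, MonObj.pow_comp, Category.id_comp,
      MonObj.comp_pow, hincs]
  · rw [Category.assoc, ← hΦ t (Finset.mem_univ t), reassoc_of% h2, MonObj.pow_comp, Category.id_comp,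
      MonObj.comp_pow, hinct s t hst, one_pow]
  · have hid : ∏ t, pr t (Finset.mem_univ t) ≫ inc t = 𝟙 P := hext' _ _ fun t => by
      have key : ∀ (S : Finset J), (∏ s ∈ S, pr s (Finset.mem_univ s) ≫ inc s) ≫ pr t (Finset.mem_univ t) =
          ∏ s ∈ S, (pr s (Finset.mem_univ s) ≫ inc s) ≫ pr t (Finset.mem_univ t) := by
        intro S
        induction S using Finset.induction with
        | empty => rw [Finset.prod_empty, Finset.prod_empty, MonObj.one_comp]
        | insert b S hb ih => rw [Finset.prod_insert hb, Finset.prod_insert hb, MonObj.mul_comp, ih]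
      rw [key, Category.id_comp, Finset.prod_eq_single t, Category.assoc, hincs, Category.comp_id]
      · intro s _ hst
        rw [Category.assoc, hinct s t hst, MonObj.comp_one]
      · exact fun h => absurd (Finset.mem_univ t) h
    have key : ∀ (S : Finset J) (f : J → (P ⟶ P)), Φ ≫ (∏ s ∈ S, f s) ≫ g = ∏ s ∈ S, Φ ≫ f s ≫ g := by
      intro S f
      induction S using Finset.induction with
      | empty => rw [Finset.prod_empty, Finset.prod_empty, MonObj.one_comp, MonObj.comp_one]
      | insert b S hb ih => rw [Finset.prod_insert hb, Finset.prod_insert hb, MonObj.mul_comp, MonObj.comp_mul, ih]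
    rw [← h1, show Φ ≫ g = Φ ≫ (∏ t, pr t (Finset.mem_univ t) ≫ inc t) ≫ g by rw [hid, Category.id_comp], key]
    refine Finset.prod_congr rfl fun t _ => ?_
    rw [Category.assoc, ← Category.assoc Φ, hΦ t (Finset.mem_univ t)]

end Groth.Agent.Poincare.Product
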