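import Groth.Agent.L26.Poincare.RosatiSquares
import Groth.Agent.L18.AmpleGG
import Groth.Agent.L26.Misc.Lattice

/-!
# Every invertible class is represented through an ample one; the trace of a product of positive elements
-/

set_option autoImplicit false
set_option linter.style.haveILetI false
set_option linter.unusedSectionVars false
set_option backward.isDefEq.respectTransparency false

universe u

open CategoryTheory CategoryTheory.Limits MonoidalCategory CartesianMonoidalCategory AlgebraicGeometry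
open scoped MonObj

noncomputable section

namespace Groth.Agent.Poincare.Corr

open Groth.Agent.AV Orth DegreeForm Rosati RosatiPos RosatiTrace RosatiEffective RosatiSquares

attribute [local instance] Groth.L08.Cube.clMonoid InterPic.picLaw

/-- An injective endomorphism of a lattice has a nonzero multiple of any element in its range. -/
theorem exists_zsmul_mem_range {M : Type*} [AddCommGroup M] [Module.Free ℤ M] [Module.Finite ℤ M]
    (f : M →ₗ[ℤ] M) (hf : Function.Injective f) (ψ : M) : ∃ n : ℤ, n ≠ 0 ∧ n • ψ ∈ LinearMap.range f := by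
  have h1 := Submodule.finrank_quotient_add_finrank (LinearMap.range f)
  rw [LinearMap.finrank_range_of_inj hf] at h1
  have h2 : Module.IsTorsion ℤ (M ⧸ LinearMap.range f) :=
    Module.finrank_eq_zero_iff_isTorsion.1 (by omega)
  obtain ⟨⟨n, hn⟩, hn2⟩ := @h2 (Submodule.Quotient.mk ψ)
  refine ⟨n, nonZeroDivisors.ne_zero hn, ?_⟩
  rw [← Submodule.Quotient.mk_eq_zero, Submodule.Quotient.mk_smul]
  exact hn2

variable {k : Type u} [Field k] {A : Over (Spec (CommRingCat.of k))}
  [GrpObj A] [IsCommMonObj A] [IsProper A.hom] [GeometricallyIntegral A.hom]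

theorem bil_nsmul_right (L : A.left.Modules) (hL : PicF.IsInvertible L) {W : Over (Spec (CommRingCat.of k))}
    (f g : W ⟶ A) (x : EndAV.End A) (n : ℕ) :
    bil L hL f (g ≫ (n • x).toHom) = n • bil L hL f (g ≫ x.toHom) := by
  rw [EndAV.End.toHom_nsmul, MonObj.comp_pow, bil_pow_right]

variable (L : A.left.Modules) (hL : CohB1.IsAmple L)

include hL in
/-- The pairing detects endomorphisms. -/
theorem eq_zero_of_bil {g : ℕ} (hg : topologicalKrullDim A.left = g) (x : EndAV.End A) (n : ℕ) (hn : 1 ≤ n)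
    (h : n • bil L hL.1 x.toHom x.toHom = 0) : x = 0 := by
  by_contra hx
  have hx' : x.toHom ≠ 1 := fun h => hx (EndAV.End.ext (h.trans EndAV.End.toHom_zero.symm))
  obtain ⟨L', hL', hsym, hbil⟩ := exists_symm L hL
  have h1 : n • bil L' hL'.1 x.toHom x.toHom = 0 := by rw [hbil, smul_comm, h, smul_zero]
  rw [show bil L' hL'.1 x.toHom x.toHom = _ from DegreeForm.Bil_self L' hL'.1 hsym _] at h1
  have h2 := congrArg (tr L' hL'.1 hg) h1
  rw [map_nsmul, map_zsmul, map_zero, zsmul_eq_mul, nsmul_eq_mul] at h2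
  exact (mul_pos (Nat.cast_pos.2 hn) (mul_pos (by norm_num) (tr_F_pos hg L' hL' _ hx'))).ne' h2

include hL in
/-- The case of an ample class. -/
theorem exists_rep_ample {g : ℕ} (hg : topologicalKrullDim A.left = g) (M : A.left.Modules) (hM : CohB1.IsAmple M) :
    ∃ (m : ℕ) (γ : EndAV.End A), 1 ≤ m ∧ ∀ {W : Over (Spec (CommRingCat.of k))} (f f' : W ⟶ A),
      m • bil M hM.1 f f' = bil L hL.1 f (f' ≫ γ.toHom) := by
  obtain ⟨hPp, hPg⟩ := Adjoint.prod_instances A A
  haveI := hPp
  haveI := hPg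
  have hS := Groth.L18.Ample.isAmple_external A.hom A.hom hL hM
  let Q : (A ⊗ A).left.Modules := CohB1.tensorMod ((Scheme.Modules.pullback (fst A A).left).obj L)
    ((Scheme.Modules.pullback (snd A A).left).obj M)
  have hQ : CohB1.IsAmple Q := hS
  have hQF : ∀ {W : Over (Spec (CommRingCat.of k))} (φ : W ⟶ A ⊗ A),
      F Q hQ.1 φ = F L hL.1 (φ ≫ fst A A) + F M hM.1 (φ ≫ snd A A) := fun {W} φ => ext_val (by
    show PicF.pullCl φ.left (PicF.pullCl (fst A A).left (PicF.cl L) * PicF.pullCl (snd A A).left (PicF.cl M)) =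
      PicF.pullCl (φ ≫ fst A A).left (PicF.cl L) * PicF.pullCl (φ ≫ snd A A).left (PicF.cl M)
    rw [Groth.L08.Cube.pullCl_mul, ← PicLoc.pullCl_comp, ← PicLoc.pullCl_comp]
    rfl)
  have hbilQ : ∀ {W : Over (Spec (CommRingCat.of k))} (φ ψ : W ⟶ A ⊗ A), bil Q hQ.1 φ ψ =
      bil L hL.1 (φ ≫ fst A A) (ψ ≫ fst A A) + bil M hM.1 (φ ≫ snd A A) (ψ ≫ snd A A) := by
    intro W φ ψ
    show F Q hQ.1 (φ * ψ) - F Q hQ.1 φ - F Q hQ.1 ψ =
      (F L hL.1 ((φ ≫ fst A A) * (ψ ≫ fst A A)) - F L hL.1 (φ ≫ fst A A) - F L hL.1 (ψ ≫ fst A A)) +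
      (F M hM.1 ((φ ≫ snd A A) * (ψ ≫ snd A A)) - F M hM.1 (φ ≫ snd A A) - F M hM.1 (ψ ≫ snd A A))
    rw [hQF, hQF, hQF, MonObj.mul_comp, MonObj.mul_comp]
    abel
  let i : A ⟶ A ⊗ A := lift (𝟙 A) (𝟙 A)
  haveI : IsMonHom i := inferInstance
  haveI : IsClosedImmersion i.left := by
    haveI : IsSeparated (fst A A).left :=
      MorphismProperty.of_isPullback (Groth.L08.Cube.isPullback_prod A A).flip (inferInstance : IsSeparated A.hom)
    haveI : IsClosedImmersion (i.left ≫ (fst A A).left) := by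
      rw [← Over.comp_left, lift_fst, Over.id_left]
      infer_instance
    exact IsClosedImmersion.of_comp i.left (fst A A).left
  obtain ⟨q, N, hqm, hN, -, hq⟩ := Reducibility.exists_proj Q hQ i
  haveI := hqm
  have key : ∀ {W : Over (Spec (CommRingCat.of k))} (f : W ⟶ A) (x : W ⟶ A ⊗ A),
      N • (bil L hL.1 f (x ≫ fst A A) + bil M hM.1 f (x ≫ snd A A)) =
        bil L hL.1 f (x ≫ q) + bil M hM.1 f (x ≫ q) := by
    intro W f x
    have h1 := congrArg (pb (lift f x)) hq
    unfold Orth.pair at h1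
    rw [map_zero, pb_bil, lift_fst_assoc, lift_snd_assoc, hbilQ] at h1
    simp only [MonObj.mul_comp, MonObj.comp_mul, MonObj.pow_comp, MonObj.comp_pow, GrpObj.inv_comp, GrpObj.comp_inv,
      Category.assoc, Category.id_comp, i, lift_fst, lift_snd, Category.comp_id, bil_mul_right, bil_pow_right,
      bil_inv_right] at h1
    refine sub_eq_zero.1 ?_
    rw [← h1, smul_add]
    abel
  have hd : ∀ a b : EndAV.End A, ∃ z : EndAV.End A, z.toHom = lift a.toHom b.toHom ≫ q := fun a b => by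
    haveI : IsMonHom a.toHom := EndAV.Hom.isMonHom_toHom a
    haveI : IsMonHom b.toHom := EndAV.Hom.isMonHom_toHom b
    exact ⟨EndAV.End.of (lift a.toHom b.toHom ≫ q), EndAV.End.toHom_of _⟩
  obtain ⟨ε, hε⟩ := hd 1 0
  obtain ⟨δ, hδ⟩ := hd 0 1
  have kε : ∀ {W : Over (Spec (CommRingCat.of k))} (f f' : W ⟶ A),
      N • bil L hL.1 f f' = bil L hL.1 f (f' ≫ ε.toHom) + bil M hM.1 f (f' ≫ ε.toHom) := fun {W} f f' => by
    have h := key f (f' ≫ lift (1 : EndAV.End A).toHom (0 : EndAV.End A).toHom)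
    rw [Category.assoc, Category.assoc, lift_fst, lift_snd, EndAV.End.toHom_one, EndAV.End.toHom_zero,
      Category.comp_id, MonObj.comp_one, bil_one_right, add_zero] at h
    rw [h, hε, EndAV.End.toHom_one, EndAV.End.toHom_zero, Category.assoc]
  have kδ : ∀ {W : Over (Spec (CommRingCat.of k))} (f f' : W ⟶ A),
      N • bil M hM.1 f f' = bil L hL.1 f (f' ≫ δ.toHom) + bil M hM.1 f (f' ≫ δ.toHom) := fun {W} f f' => by
    have h := key f (f' ≫ lift (0 : EndAV.End A).toHom (1 : EndAV.End A).toHom)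
    rw [Category.assoc, Category.assoc, lift_fst, lift_snd, EndAV.End.toHom_one, EndAV.End.toHom_zero,
      Category.comp_id, MonObj.comp_one, bil_one_right, zero_add] at h
    rw [h, hδ, EndAV.End.toHom_one, EndAV.End.toHom_zero, Category.assoc]
  have hinj : Function.Injective (AddMonoidHom.mulLeft ε).toIntLinearMap := by
    refine (injective_iff_map_eq_zero (AddMonoidHom.mulLeft ε).toIntLinearMap).2 fun x hx => ?_
    refine eq_zero_of_bil L hL hg x N hN ?_
    have h := congrArg EndAV.End.toHom (show ε * x = 0 from hx)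
    rw [EndAV.End.toHom_mul, EndAV.End.toHom_zero] at h
    rw [kε, h, bil_one_right, bil_one_right, add_zero]
  haveI : Module.Free ℤ (EndAV.End A) := (HomFin.finite_free k A A hg hg).1
  haveI : Module.Finite ℤ (EndAV.End A) := (HomFin.finite_free k A A hg hg).2.1
  obtain ⟨n, hn, y, hy⟩ := exists_zsmul_mem_range _ hinj (1 : EndAV.End A)
  obtain ⟨m, y', hm, hy'⟩ : ∃ (m : ℕ) (y' : EndAV.End A), 1 ≤ m ∧ ε * y' = m • (1 : EndAV.End A) := by
    rcases Int.natAbs_eq n with h | h
    · exact ⟨n.natAbs, y, Int.natAbs_pos.2 hn, by rw [← natCast_zsmul, ← h]; exact hy⟩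
    · refine ⟨n.natAbs, -y, Int.natAbs_pos.2 hn, ?_⟩
      rw [mul_neg, show ε * y = n • (1 : EndAV.End A) from hy, ← natCast_zsmul, ← neg_smul, neg_eq_iff_eq_neg.2 h]
  have hy2 : y'.toHom ≫ ε.toHom = (m • (1 : EndAV.End A)).toHom := by rw [← EndAV.End.toHom_mul, hy']
  refine ⟨m * N, N • (y' * δ), Nat.one_le_iff_ne_zero.2 (Nat.mul_ne_zero (by omega) (by omega)), fun {W} f f' => ?_⟩
  rw [bil_nsmul_right, EndAV.End.toHom_mul, ← Category.assoc, kε, Category.assoc, hy2, bil_nsmul_right,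
    bil_nsmul_right, EndAV.End.toHom_one, Category.comp_id, ← smul_add, ← kδ, mul_smul]

include hL in
/-- Every invertible class is represented through an ample one. -/
theorem exists_rep {g : ℕ} (hg : topologicalKrullDim A.left = g) (M : A.left.Modules) (hM : PicF.IsInvertible M) :
    ∃ (m : ℕ) (γ : EndAV.End A), 1 ≤ m ∧ ∀ {W : Over (Spec (CommRingCat.of k))} (f f' : W ⟶ A),
      m • bil M hM f f' = bil L hL.1 f (f' ≫ γ.toHom) := by
  haveI : IsLocallyNoetherian A.left := LocallyOfFiniteType.isLocallyNoetherian A.hom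
  haveI : CompactSpace A.left := QuasiCompact.compactSpace_of_compactSpace A.hom
  obtain ⟨n, -, hn⟩ := Groth.L18.Ample.exists_forall_isAmple_gg hL hM
  obtain ⟨hM', -⟩ := hn n le_rfl
  obtain ⟨m, γ, hm, h⟩ := exists_rep_ample L hL hg _ hM'
  refine ⟨m, γ - (m * n) • (1 : EndAV.End A), hm, fun {W} f f' => ?_⟩
  have hF : ∀ φ : W ⟶ A, F (CohB1.tensorMod (CohB1.tensorPow L n) M) hM'.1 φ = n • F L hL.1 φ + F M hM φ :=
    fun φ => ext_val (by
      show PicF.pullCl φ.left (PicF.cl (CohB1.tensorPow L n) * PicF.cl M) =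
        (n • F L hL.1 φ).toMul.1 * PicF.pullCl φ.left (PicF.cl M)
      rw [Groth.L08.Cube.pullCl_mul, val_nsmul, Groth.L08.Cube.cl_tensorPow]
      exact congrArg (· * _) (map_pow (⟨⟨PicF.pullCl φ.left, Groth.L08.Cube.pullCl_one _⟩,
        Groth.L08.Cube.pullCl_mul _⟩ : PicF.Cl A.left →* PicF.Cl W.left) (PicF.cl L) n))
  have hb : bil (CohB1.tensorMod (CohB1.tensorPow L n) M) hM'.1 f f' = n • bil L hL.1 f f' + bil M hM f f' := by
    show F _ hM'.1 (f * f') - F _ hM'.1 f - F _ hM'.1 f' =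
      n • (F L hL.1 (f * f') - F L hL.1 f - F L hL.1 f') + (F M hM (f * f') - F M hM f - F M hM f')
    rw [hF, hF, hF, smul_sub, smul_sub]
    abel
  have h' := h f f'
  rw [hb, smul_add, smul_smul] at h'
  rw [sub_eq_add_neg, EndAV.End.toHom_add, EndAV.End.toHom_neg, MonObj.comp_mul, GrpObj.comp_inv, bil_mul_right,
    bil_inv_right, bil_nsmul_right, EndAV.End.toHom_one, Category.comp_id, ← h']
  abel

variable [IsAlgClosed k] {g : ℕ} (hg : topologicalKrullDim A.left = g)
  (hsym : Groth.L08.Cube.pc L (𝟙 A)⁻¹ = Groth.L08.Cube.pc L (𝟙 A))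

set_option synthInstance.maxHeartbeats 400000 in
include hsym in
/-- The trace of a nonzero product of positive symmetric endomorphisms is positive. -/
theorem trEnd_mul_pos (α β : EndAV.End A) (hα : Sym L hL α) (hβ : Sym L hL β)
    (hnnα : ∀ z : EndAV.End A, 0 ≤ tr L hL.1 hg (bil L hL.1 z.toHom (z.toHom ≫ α.toHom)))
    (hnnβ : ∀ z : EndAV.End A, 0 ≤ tr L hL.1 hg (bil L hL.1 z.toHom (z.toHom ≫ β.toHom)))
    (hαβ : α * β ≠ 0) : 0 < trEnd L hL hg (α * β) := by
  obtain ⟨d, n, z, hd, hz, e⟩ := exists_squares_of_pos L hL hg hsym α hα hnnα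
  have hsum : (d : ℚ) * trEnd L hL hg (α * β) = ∑ i, trEnd L hL hg (z i * β * z i) := by
    rw [← nsmul_eq_mul, ← map_nsmul, ← smul_mul_assoc, e, Finset.sum_mul, map_sum]
    refine Finset.sum_congr rfl fun i _ => ?_
    rw [_root_.mul_assoc, trEnd_mul_comm L hL hg hsym]
  have hterm : ∀ i, 0 ≤ trEnd L hL hg (z i * β * z i) := fun i => by
    rw [trEnd_conj L hL hg (sym_of_mem L hL hα (hz i))]
    exact hnnβ (z i)
  refine pos_of_mul_pos_right ?_ (Nat.cast_nonneg d)
  rw [hsum]
  refine lt_of_le_of_ne (Finset.sum_nonneg fun i _ => hterm i) fun h0 => hαβ ?_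
  have hzero : ∀ i, z i * β = 0 := fun i => by
    have h1 := (Finset.sum_eq_zero_iff_of_nonneg fun i _ => hterm i).1 h0.symm i (Finset.mem_univ i)
    rw [trEnd_conj L hL hg (sym_of_mem L hL hα (hz i))] at h1
    have h2 := eq_one_of_tr_eq_zero L hL hg hsym β hβ hnnβ (z i) h1
    have h4 : (z i).toHom ≫ β.toHom = 1 := by
      have := congrArg EndAV.End.toHom h2
      rwa [EndAV.End.toHom_mul, EndAV.End.toHom_zero] at this
    refine eq_zero_of_bil L hL hg _ 1 le_rfl ?_
    have hzi : Sym L hL (z i) := fun f f' => sym_of_mem L hL hα (hz i) f f'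
    rw [one_smul, EndAV.End.toHom_mul, ← hzi, Category.assoc]
    have h5 := (hβ (𝟙 A) (β.toHom ≫ (z i).toHom ≫ (z i).toHom)).symm
    rw [Category.id_comp] at h5
    rw [h5, Category.assoc, Category.assoc, h4, MonObj.comp_one, MonObj.comp_one, bil_one_right]
  have h6 : d • (α * β) = 0 := by
    rw [← smul_mul_assoc, e, Finset.sum_mul]
    exact Finset.sum_eq_zero fun i _ => by rw [_root_.mul_assoc, hzero i, mul_zero]
  have h7 := congrArg EndAV.toEnd0 h6
  rw [map_nsmul, map_zero, ← Nat.cast_smul_eq_nsmul ℚ] at h7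
  exact CharMin.toEnd0_injective (((smul_eq_zero.1 h7).resolve_left (Nat.cast_ne_zero.2 hd.ne')).trans (map_zero _).symm)

end Groth.Agent.Poincare.Corr
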