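import Groth.Agent.L26.AV.DegreeForm
import Groth.Agent.L26.AV.Rigidity
import Groth.Agent.L08.SubgroupObj
import Groth.Agent.L08.Cube.Field
import Groth.Agent.L19.ProjBdl.Loci
import Groth.Agent.L19.ProjBdl.Points
import Groth.Agent.S19476

/-!
# The orthogonal of an abelian subvariety
-/

set_option autoImplicit false
set_option linter.style.haveILetI false
set_option linter.unusedSectionVars false
set_option backward.isDefEq.respectTransparency false

universe u

open CategoryTheory CategoryTheory.Limits MonoidalCategory CartesianMonoidalCategory AlgebraicGeometry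
open scoped MonObj

noncomputable section

namespace Groth.Agent.Poincare.Orth

open Groth.Agent.AV

attribute [local instance] Groth.L08.Cube.clMonoid InterPic.picLaw

variable {k : Type u} [Field k] {A : Over (Spec (CommRingCat.of k))}
  [GrpObj A] [IsCommMonObj A] [IsProper A.hom] [GeometricallyIntegral A.hom]
  (L : A.left.Modules) (hL : PicF.IsInvertible L)

/-- The pairing of two points. -/
def bil {W : Over (Spec (CommRingCat.of k))} (x y : W ⟶ A) : Additive (PicLoc.PicSet W.left) :=
  DegreeForm.Bil L hL (Additive.ofMul x) (Additive.ofMul y)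

theorem bil_mul_left {W : Over (Spec (CommRingCat.of k))} (x x' y : W ⟶ A) :
    bil L hL (x * x') y = bil L hL x y + bil L hL x' y := by
  unfold bil
  rw [ofMul_mul, map_add, AddMonoidHom.add_apply]

theorem bil_mul_right {W : Over (Spec (CommRingCat.of k))} (x y y' : W ⟶ A) :
    bil L hL x (y * y') = bil L hL x y + bil L hL x y' := by
  unfold bil
  rw [ofMul_mul, map_add]

theorem bil_one_right {W : Over (Spec (CommRingCat.of k))} (x : W ⟶ A) : bil L hL x 1 = 0 := by
  unfold bil
  rw [ofMul_one, map_zero]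

theorem bil_one_left {W : Over (Spec (CommRingCat.of k))} (y : W ⟶ A) : bil L hL 1 y = 0 := by
  unfold bil
  rw [ofMul_one, map_zero, AddMonoidHom.zero_apply]

theorem bil_inv_right {W : Over (Spec (CommRingCat.of k))} (x y : W ⟶ A) : bil L hL x y⁻¹ = - bil L hL x y := by
  unfold bil
  rw [ofMul_inv, map_neg]

theorem bil_pow_right {W : Over (Spec (CommRingCat.of k))} (x y : W ⟶ A) (n : ℕ) :
    bil L hL x (y ^ n) = n • bil L hL x y := by
  unfold bil
  rw [ofMul_pow, map_nsmul]

theorem bil_pow_left {W : Over (Spec (CommRingCat.of k))} (x y : W ⟶ A) (n : ℕ) :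
    bil L hL (x ^ n) y = n • bil L hL x y := by
  unfold bil
  rw [ofMul_pow, map_nsmul, AddMonoidHom.nsmul_apply]

/-- Pullback of classes, additively. -/
def pb {W W' : Over (Spec (CommRingCat.of k))} (h : W' ⟶ W) :
    Additive (PicLoc.PicSet W.left) →+ Additive (PicLoc.PicSet W'.left) :=
  MonoidHom.toAdditive (InterPic.pullPic h.left)

theorem pb_val {W W' : Over (Spec (CommRingCat.of k))} (h : W' ⟶ W) (a : Additive (PicLoc.PicSet W.left)) :
    (pb h a).toMul.1 = PicF.pullCl h.left a.toMul.1 := rfl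

theorem pb_comp {W W' W'' : Over (Spec (CommRingCat.of k))} (h : W' ⟶ W) (h' : W'' ⟶ W')
    (a : Additive (PicLoc.PicSet W.left)) : pb h' (pb h a) = pb (h' ≫ h) a :=
  Subtype.ext (show PicF.pullCl h'.left (PicF.pullCl h.left a.toMul.1) = PicF.pullCl (h'.left ≫ h.left) a.toMul.1 from
    (PicLoc.pullCl_comp _ _ _).symm)

theorem pb_bil {W W' : Over (Spec (CommRingCat.of k))} (h : W' ⟶ W) (x y : W ⟶ A) :
    pb h (bil L hL x y) = bil L hL (h ≫ x) (h ≫ y) := by
  have key : ∀ φ : W ⟶ A, pb h (DegreeForm.F L hL φ) = DegreeForm.F L hL (h ≫ φ) := fun φ =>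
    Subtype.ext (Groth.L08.Cube.pullCl_pc L h φ)
  show pb h (DegreeForm.F L hL (x * y) - DegreeForm.F L hL x - DegreeForm.F L hL y) =
    DegreeForm.F L hL ((h ≫ x) * (h ≫ y)) - DegreeForm.F L hL (h ≫ x) - DegreeForm.F L hL (h ≫ y)
  rw [map_sub, map_sub, key, key, key, MonObj.comp_mul]

variable {B : Over (Spec (CommRingCat.of k))} (i : B ⟶ A)

/-- The class on `B ⊗ T` paired with a point of `A`. -/
def pair {T : Over (Spec (CommRingCat.of k))} (y : T ⟶ A) : Additive (PicLoc.PicSet (B ⊗ T).left) :=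
  bil L hL (fst B T ≫ i) (snd B T ≫ y)

theorem pair_mul {T : Over (Spec (CommRingCat.of k))} (y y' : T ⟶ A) :
    pair L hL i (y * y') = pair L hL i y + pair L hL i y' := by
  unfold pair
  rw [MonObj.comp_mul, bil_mul_right]

theorem pair_one {T : Over (Spec (CommRingCat.of k))} : pair L hL i (1 : T ⟶ A) = 0 := by
  unfold pair
  rw [MonObj.comp_one, bil_one_right]

theorem pair_inv {T : Over (Spec (CommRingCat.of k))} (y : T ⟶ A) : pair L hL i y⁻¹ = - pair L hL i y := by
  unfold pair
  rw [GrpObj.comp_inv, bil_inv_right]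

theorem pb_pair {T T' : Over (Spec (CommRingCat.of k))} (h : T' ⟶ T) (y : T ⟶ A) :
    pb (B ◁ h) (pair L hL i y) = pair L hL i (h ≫ y) := by
  unfold pair
  rw [pb_bil, whiskerLeft_fst_assoc, whiskerLeft_snd_assoc]

variable [GrpObj B] [IsProper B.hom] [GeometricallyIntegral B.hom] [IsMonHom i]

/-- The orthogonal subgroup. -/
theorem exists_orth : ∃ (G : Over (Spec (CommRingCat.of k))) (_ : GrpObj G) (j : G ⟶ A),
    IsMonHom j ∧ IsClosedImmersion j.left ∧ pair L hL i j = 0 ∧
      ∀ (T : Over (Spec (CommRingCat.of k))) [IsLocallyNoetherian T.left] (y : T ⟶ A),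
        pair L hL i y = 0 → ∃ z : T ⟶ G, z ≫ j = y := by
  let f := (snd B A).left
  haveI : IsLocallyNoetherian A.left := LocallyOfFiniteType.isLocallyNoetherian A.hom
  haveI : IsProper f := Groth.L08.Cube.isProper_snd B A
  haveI : Flat f := Groth.L08.Cube.flat_snd B A
  haveI : GeometricallyIntegral f :=
    MorphismProperty.of_isPullback (Groth.L08.Cube.isPullback_prod B A) ‹GeometricallyIntegral B.hom›
  let c := (pair L hL i (𝟙 A)).toMul
  let M₀ := InterPic.rep c
  obtain ⟨Z, jZ, hjZ, huniv⟩ := Groth.Agent.S19476.result f M₀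
    (Groth.L19.ProjBdl.isFinLocFreeOfRank_one_of_frames fun x =>
      Groth.L18.Frame.exists_frame (InterPic.isInvertible_rep c) x)
  let G : Over (Spec (CommRingCat.of k)) := Over.mk (jZ ≫ A.hom)
  let j : G ⟶ A := Over.homMk jZ rfl
  haveI : IsClosedImmersion j.left := hjZ
  have hmem : ∀ (T : Over (Spec (CommRingCat.of k))) [IsLocallyNoetherian T.left] (y : T ⟶ A),
      (∃ z : T ⟶ G, z ≫ j = y) ↔ pair L hL i y = 0 := by
    intro T _ y
    have hz : (∃ z : T ⟶ G, z ≫ j = y) ↔ ∃ u' : T.left ⟶ Z, u' ≫ jZ = y.left := by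
      refine ⟨fun ⟨z, hz⟩ => ⟨z.left, congrArg CommaMorphism.left hz⟩, fun ⟨u', hu⟩ => ⟨Over.homMk u' ?_, Over.OverMorphism.ext hu⟩⟩
      show u' ≫ jZ ≫ A.hom = T.hom
      rw [reassoc_of% hu, Over.w y]
    rw [hz, huniv T.left y.left inferInstance]
    let e := (Groth.L08.Cube.isPullback_whiskerLeft B y).isoPullback
    have he1 : e.hom ≫ pullback.fst f y.left = (B ◁ y).left := IsPullback.isoPullback_hom_fst _
    have he2 : e.hom ≫ pullback.snd f y.left = (snd B T).left := IsPullback.isoPullback_hom_snd _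
    have hval : (pair L hL i y).toMul.1 = PicF.pullCl e.hom (PicF.pullCl (pullback.fst f y.left) (PicF.cl M₀)) := by
      rw [← PicLoc.pullCl_comp, he1, InterPic.cl_rep, ← pb_val]
      exact (congrArg (fun z => (Additive.toMul z).1) ((pb_pair L hL i y (𝟙 A)).trans
        (congrArg (pair L hL i) (Category.comp_id y)))).symm
    constructor
    · rintro ⟨M, -, ⟨θ⟩⟩
      have h1 : PicF.pullCl (pullback.fst f y.left) (PicF.cl M₀) = PicF.pullCl (pullback.snd f y.left) (PicF.cl M) :=
        (PicGrp.cl_eq_cl_iff _ _).2 ⟨θ⟩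
      have h2 : (pair L hL i y).toMul.1 = PicF.pullCl (snd B T).left (PicF.cl M) := by
        rw [hval, h1, ← PicLoc.pullCl_comp, he2]
      let s : T ⟶ B ⊗ T := lift 1 (𝟙 T)
      have h3 : pb s (pair L hL i y) = 0 := by
        unfold pair
        rw [pb_bil, lift_fst_assoc, MonObj.one_comp, bil_one_left]
      have h4 : PicF.cl M = 1 := by
        have := congrArg (PicF.pullCl s.left) h2
        rw [← pb_val, h3, ← PicLoc.pullCl_comp, ← Over.comp_left, lift_snd, Over.id_left, PicLoc.pullCl_id] at this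
        exact this.symm
      refine Subtype.ext ?_
      show (pair L hL i y).toMul.1 = 1
      rw [h2, h4, Groth.L08.Cube.pullCl_one]
    · intro h
      refine ⟨_, Groth.L19.ProjBdl.isFinLocFreeOfRank_one_structureModule, ?_⟩
      refine (PicGrp.cl_eq_cl_iff _ _).1 ?_
      show PicF.pullCl (pullback.fst f y.left) (PicF.cl M₀) = PicF.pullCl (pullback.snd f y.left) 1
      have := congrArg (PicF.pullCl e.inv) hval
      rw [h, ← PicLoc.pullCl_comp, Iso.inv_hom_id, PicLoc.pullCl_id] at this
      rw [← this, Groth.L08.Cube.pullCl_one]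
      exact Groth.L08.Cube.pullCl_one _
  haveI : Mono j := Groth.L08.mono_of_closedImmersion j
  haveI : LocallyOfFiniteType G.hom := inferInstanceAs (LocallyOfFiniteType (jZ ≫ A.hom))
  haveI : LocallyOfFiniteType (fst G G).left :=
    MorphismProperty.of_isPullback (Groth.L08.Cube.isPullback_prod G G).flip ‹LocallyOfFiniteType G.hom›
  haveI : LocallyOfFiniteType (G ⊗ G).hom := by rw [← Over.w (fst G G)]; infer_instance
  haveI : LocallyOfFiniteType (𝟙_ (Over (Spec (CommRingCat.of k)))).hom := inferInstanceAs (LocallyOfFiniteType (𝟙 _))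
  haveI : IsLocallyNoetherian G.left := LocallyOfFiniteType.isLocallyNoetherian G.hom
  haveI : IsLocallyNoetherian (G ⊗ G).left := LocallyOfFiniteType.isLocallyNoetherian (G ⊗ G).hom
  haveI : IsLocallyNoetherian (𝟙_ (Over (Spec (CommRingCat.of k)))).left :=
    LocallyOfFiniteType.isLocallyNoetherian (𝟙_ (Over (Spec (CommRingCat.of k)))).hom
  have hj : pair L hL i j = 0 := (hmem G j).1 ⟨𝟙 G, Category.id_comp j⟩
  obtain ⟨gG, hjm⟩ := Groth.L08.exists_grpObj_of_mono j
    ((hmem _ η[A]).2 (by
      rw [show η[A] = (1 : 𝟙_ _ ⟶ A) by rw [Hom.one_def, toUnit_unique (toUnit _) (𝟙 _), Category.id_comp]]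
      exact pair_one L hL i))
    ((hmem _ _).2 (by
      rw [pair_mul, ← pb_pair, ← pb_pair, hj, map_zero, map_zero, add_zero]))
    ((hmem _ _).2 (by rw [pair_inv, hj, neg_zero]))
  exact ⟨G, gG, j, hjm, hjZ, hj, fun T _ y hy => (hmem T y).2 hy⟩

end Groth.Agent.Poincare.Orth
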