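import Groth.Agent.L22.Inter.Mixed
import Groth.Agent.L26.AV.Degree
import Groth.Agent.L26.AV.Image
import Groth.Agent.L26.AV.HomFin
import Groth.Agent.L21.RR.Mul
import Groth.Agent.L18.AmplePull

/-!
# Positivity of the intersection of an ample class with a divisor, sections of pullbacks of ample classes
-/

set_option autoImplicit false
set_option linter.style.haveILetI false
set_option linter.unusedSectionVars false
set_option backward.isDefEq.respectTransparency false

universe u

open CategoryTheory CategoryTheory.Limits MonoidalCategory CartesianMonoidalCategory AlgebraicGeometry TopologicalSpace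
open scoped MonObj

noncomputable section

namespace Groth.Agent.Poincare.Positive

open Groth.L21.RR Groth.L22.Inter Groth.L03.Euler Groth.L16

section General

variable {X : Scheme.{u}} [IsIntegral X] {M : X.Modules}

theorem injective_st (hM : PicF.IsInvertible M) {s : Coh.structureModule X ⟶ M} (hs : s ≠ 0) (x : X) :
    Function.Injective (st s x) := by
  obtain ⟨e, he⟩ := exists_frame_stalk hM x
  obtain ⟨b, hb⟩ := he.2 (st s x (one X x))
  refine (injective_iff_map_eq_zero _).2 fun v hv => ?_
  obtain ⟨a, rfl⟩ := (bijective_smul_one x).2 v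
  simp only [map_smul, ← hb, smul_smul] at hv
  have h0 : a * b = 0 := he.1 (by simpa using hv)
  rcases mul_eq_zero.1 h0 with h | h
  · simp [h]
  · exact absurd (by rw [← hb, h]; exact zero_smul _ _) (st_one_ne_zero hM hs x)

theorem genericPoint_mem_genLocus (hM : PicF.IsInvertible M) {s : Coh.structureModule X ⟶ M} (hs : s ≠ 0) :
    genericPoint X ∈ CohB1.genLocus M s := by
  obtain ⟨e, he⟩ := exists_frame_stalk hM (genericPoint X)
  obtain ⟨b, hb⟩ := he.2 (st s (genericPoint X) (one X (genericPoint X)))
  rw [mem_genLocus_iff hM s, surjective_st_iff he s hb]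
  letI : Field (X.presheaf.stalk (genericPoint X)) := inferInstanceAs (Field X.functionField)
  refine isUnit_iff_ne_zero.2 fun h => st_one_ne_zero hM hs (genericPoint X) ?_
  rw [← hb, h]
  exact zero_smul _ _

theorem genLocus_ne_top (hM : PicF.IsInvertible M) {s : Coh.structureModule X ⟶ M} (hs : s ≠ 0) (hs' : ¬ IsIso s) :
    ∃ x, x ∉ CohB1.genLocus M s := by
  by_contra h
  simp only [not_exists, not_not] at h
  exact hs' ((Groth.L21.Mod.isIso_iff_stalk_bijective s).2 fun x =>
    ⟨injective_st hM hs x, (mem_genLocus_iff hM s x).1 (h x)⟩)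

variable (k : Type u) [Field k] [X.Over (Spec (CommRingCat.of k))] [IsProper (X ↘ Spec (CommRingCat.of k))]

/-- The intersection number of ample classes with a positive divisor is positive. -/
theorem altT_cons_pos {r : ℕ} (hX : topologicalKrullDim X = (r + 1 : ℕ)) (L : Fin r → X.Modules)
    (hL : ∀ i, CohB1.IsAmple (L i)) (hM : PicF.IsInvertible M)
    (s : Coh.structureModule X ⟶ M) (hs : s ≠ 0) (hs' : ¬ IsIso s) :
    0 < altT k (Fin.cons M L) (Coh.structureModule X) := by
  haveI := Groth.L21.RR.isNoetherian_of_proper (X := X) k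
  have hO : Coh.IsCoh (Coh.structureModule X) := CohClosedPush.isCoh_structure
  have hMc : Coh.IsCoh M := Groth.L18.Ample.isCoh_of_isInvertible hM
  haveI : Coh.IsQCoh M := hMc.1
  haveI : Mono s := (Groth.L21.Mod.mono_iff_stalk_injective _).2 fun x => injective_st hM hs x
  have hkc := CohKernel.isCoh_kernel_cokernel hO hMc s
  have hsQ : ∀ x, x ∈ CohB1.support (cokernel s) ↔ x ∉ CohB1.genLocus M s := fun x => by
    rw [← not_iff_not, not_not, notMem_support_cokernel_iff, mem_genLocus_iff hM s]
    exact Iff.rfl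
  obtain ⟨x₁, hx₁⟩ := genLocus_ne_top hM hs hs'
  let y := genericPoint X
  have hy := genericPoint_mem_genLocus hM hs
  obtain ⟨z, hz, hmax⟩ := Devissage.exists_maximal_point (CohSupport.isClosed_support _ hkc.2.2) ⟨x₁, (hsQ x₁).2 hx₁⟩
  have hyd : topologicalKrullDim (closure ({y} : Set X)) = (r + 1 : ℕ) := by
    rw [(genericPoint_spec X).def, ← hX]
    exact IsHomeomorph.topologicalKrullDim_eq _ (Homeomorph.Set.univ X).isHomeomorph
  obtain ⟨m, hm, hm'⟩ := dim_closure_eq_add_one k hM s hy
    (by rw [(genericPoint_spec X).def]; trivial) ((hsQ z).1 hz) fun w _ hws hwz =>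
    hmax w ((hsQ w).2 hws) hwz
  have hmr : m = r := by
    rw [hyd] at hm'
    have h1 : r + 1 = m + 1 := by exact_mod_cast hm'
    omega
  subst hmr
  have hQd : topologicalKrullDim (CohB1.support (cokernel s)) + 1 ≤ ((m + 1 : ℕ) : WithBot ℕ∞) := by
    refine le_trans (topologicalKrullDim_add_one_le (CohSupport.isClosed_support _ hkc.2.2)
      isIrreducible_singleton.closure (fun x _ => by rw [(genericPoint_spec X).def]; trivial) fun he => ?_) hyd.le
    have h1 : y ∈ CohB1.support (cokernel s) := he ▸ subset_closure rfl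
    exact (hsQ y).1 h1 hy
  have hQle : topologicalKrullDim (CohB1.support (cokernel s)) ≤ (m : WithBot ℕ∞) := by
    generalize topologicalKrullDim (CohB1.support (cokernel s)) = t at hQd
    induction t using WithBot.recBotCoe with
    | bot => exact bot_le
    | coe t =>
      change ((t + 1 : ℕ∞) : WithBot ℕ∞) ≤ (((m + 1 : ℕ) : ℕ∞) : WithBot ℕ∞) at hQd
      rw [WithBot.coe_le_coe, Nat.cast_add, Nat.cast_one,
        ENat.add_le_add_iff_right (by simp)] at hQd
      exact WithBot.coe_le_coe.2 hQd
  have hQeq : topologicalKrullDim (CohB1.support (cokernel s)) = (m : WithBot ℕ∞) :=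
    le_antisymm hQle (hm ▸ topologicalKrullDim_set_mono
      (closure_minimal (Set.singleton_subset_iff.2 hz) (CohSupport.isClosed_support _ hkc.2.2)))
  have hLi : ∀ i, PicF.IsInvertible (L i) := fun i => (hL i).1
  choose N hN hLN using fun i => Groth.L08.Cube.exists_inverse (hLi i)
  obtain ⟨-, -, hpos⟩ := mixed k L N hL (fun i => hLN i) hkc.2 hQeq.le
  have hker : altT k L (kernel s) = 0 := by
    rw [altT, twEuler_of_isZero k hLi (isZero_kernel_of_mono s), map_zero]
  have hmap := altT_map k hLi hO hMc s
  rw [hker] at hmap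
  rw [altT_cons, altT_iso k L (Groth.L00.Tensor.tensorUnitLeft M)]
  have := hpos hQeq
  linarith

end General

/-- A nontrivial homomorphism pulls some power of an ample class back to a positive divisor. -/
theorem exists_section_pow {k : Type u} [Field k] {A B : Over (Spec (CommRingCat.of k))}
    [GrpObj A] [IsCommMonObj A] [IsProper A.hom] [GeometricallyIntegral A.hom]
    [GrpObj B] [IsCommMonObj B] [IsProper B.hom] [GeometricallyIntegral B.hom]
    (L : B.left.Modules) (hL : CohB1.IsAmple L) (φ : A ⟶ B) [IsMonHom φ] (hφ : φ ≠ 1) :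
    ∃ (N : ℕ) (s : Coh.structureModule A.left ⟶ CohB1.tensorPow ((Scheme.Modules.pullback φ.left).obj L) N),
      1 ≤ N ∧ s ≠ 0 ∧ ¬ IsIso s := by
  haveI : IsIntegral A.left := GeometricallyIntegral.isIntegral_of_subsingleton A.hom
  obtain ⟨n, s, hx, haff⟩ := hL.2.2 (φ.left (genericPoint A.left))
  obtain ⟨s', hs'⟩ := Groth.L18.Ample.exists_pull_pow φ.left hL.1 s
  have hN := Groth.L18.Ample.isInvertible_tensorPow (Groth.L18.Ample.isInvertible_pullback φ.left hL.1) (n + 1)
  refine ⟨n + 1, s', Nat.le_add_left _ _, fun h0 => ?_, fun hiso => hφ ?_⟩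
  · have h1 : genericPoint A.left ∈ CohB1.genLocus _ s' := hs' ▸ hx
    have h2 := (mem_genLocus_iff hN s' _).1 h1
    obtain ⟨e, he⟩ := exists_frame_stalk hN (genericPoint A.left)
    obtain ⟨v, hv⟩ := h2 e
    rw [h0, st, Functor.map_zero] at hv
    refine one_ne_zero (he.1 (a₁ := 1) (a₂ := 0) ?_)
    simp only [one_smul, zero_smul]
    exact hv.symm
  obtain ⟨C, gC, i, p, hi, hic, hCp, hCg, hps, hpi, hpm⟩ := Groth.Agent.AV.exists_image φ
  letI := gC
  haveI := hi
  haveI := hic
  haveI := hps
  have hall : ∀ a, φ.left a ∈ CohB1.genLocus _ s := fun a => by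
    have h1 : a ∈ CohB1.genLocus _ s' := (mem_genLocus_iff hN s' a).2 (by
      haveI := hiso
      exact ((Groth.L21.Mod.isIso_iff_stalk_bijective s').1 inferInstance a).2)
    rwa [hs'] at h1
  have h1 : i.left ⁻¹ᵁ CohB1.genLocus _ s = ⊤ := top_le_iff.1 fun c _ => by
    obtain ⟨a, rfl⟩ := p.left.surjective c
    have := hall a
    rwa [← hpi, Over.comp_left, Scheme.Hom.comp_apply] at this
  haveI : IsAffineHom C.hom := by
    have hA : IsAffineOpen (⊤ : C.left.Opens) := h1 ▸ haff.preimage i.left
    haveI : IsAffine C.left := IsAffine.of_isIso (Scheme.topIso C.left).inv (h := hA)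
    infer_instance
  haveI : IsIntegral C.left := GeometricallyIntegral.isIntegral_of_subsingleton C.hom
  haveI : Subsingleton C.left := subsingleton_of_proper_affine k C.left C.hom
  rw [← hpi, ← Category.id_comp i, Groth.Agent.AV.HomFin.id_eq_one_of_subsingleton C, MonObj.one_comp i,
    MonObj.comp_one]

end Groth.Agent.Poincare.Positive
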