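import Groth.Agent.L26.Poincare.RosatiPos
import Groth.Agent.L08.Cube.Invariant

/-!
# An effective class is nonnegative on every endomorphism; sums of squares give effective classes
-/

set_option autoImplicit false
set_option linter.style.haveILetI false
set_option linter.unusedSectionVars false
set_option backward.isDefEq.respectTransparency false

universe u

open CategoryTheory CategoryTheory.Limits MonoidalCategory CartesianMonoidalCategory AlgebraicGeometry TopologicalSpace
open scoped MonObj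

noncomputable section

namespace Groth.Agent.Poincare.RosatiEffective

open Groth.Agent.AV Orth DegreeForm Rosati RosatiPos

attribute [local instance] Groth.L08.Cube.clMonoid InterPic.picLaw

variable {k : Type u} [Field k] [IsAlgClosed k] {A : Over (Spec (CommRingCat.of k))}
  [GrpObj A] [IsCommMonObj A] [IsProper A.hom] [GeometricallyIntegral A.hom]
  (L : A.left.Modules) (hL : CohB1.IsAmple L) {g : ℕ} (hg : topologicalKrullDim A.left = g)

include hL in
/-- The trace of the pairing of an effective class with a homomorphism twice is nonnegative. -/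
theorem tr_bil_nonneg (hg1 : 1 ≤ g) (M : A.left.Modules) (hM : PicF.IsInvertible M)
    (s : Coh.structureModule A.left ⟶ M) (hs : s ≠ 0) (x : A ⟶ A) [IsMonHom x] :
    0 ≤ tr L hL.1 hg (bil M hM x x) := by
  haveI : IsIntegral A.left := GeometricallyIntegral.isIntegral_of_subsingleton A.hom
  haveI : JacobsonSpace A.left := LocallyOfFiniteType.jacobsonSpace A.hom
  obtain ⟨p, hp, hpc⟩ := nonempty_inter_closedPoints (Z := (CohB1.genLocus M s : Set A.left))
    ⟨_, Positive.genericPoint_mem_genLocus hM hs⟩ (CohB1.genLocus M s).isOpen.isLocallyClosed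
  obtain ⟨a, ha⟩ := Groth.L08.Cube.exists_kpt p hpc
  let t : A ⟶ A := 𝟙 A * (toUnit A ≫ a)
  let M' := (Scheme.Modules.pullback t.left).obj M
  have hM' : PicF.IsInvertible M' := Groth.L18.Ample.isInvertible_pullback t.left hM
  have hF' : ∀ {W : Over (Spec (CommRingCat.of k))} (φ : W ⟶ A), F M' hM' φ = F M hM (φ * (toUnit W ≫ a)) := by
    intro W φ
    refine ext_val ?_
    show PicF.pullCl φ.left (PicF.pullCl t.left (PicF.cl M)) = PicF.pullCl (φ * (toUnit W ≫ a)).left (PicF.cl M)
    rw [← PicLoc.pullCl_comp, ← Over.comp_left, MonObj.comp_mul, Category.comp_id, ← Category.assoc,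
      toUnit_unique (φ ≫ toUnit A) (toUnit W)]
  have hbil : bil M' hM' x x = bil M hM x x := by
    show F M' hM' (x * x) - F M' hM' x - F M' hM' x = _
    rw [hF', hF', F_mul M hM (x * x), F_mul M hM x (toUnit A ≫ a), F_const, bil_mul_left, F_mul M hM x x]
    abel
  have key : ∀ (y : A ⟶ A) [IsMonHom y], 0 ≤ tr L hL.1 hg (F M' hM' y) := by
    intro y _
    let s' := Groth.L18.Ample.pullHom t.left s
    let s'' := Groth.L18.Ample.pullHom y.left s'
    have hM'' : PicF.IsInvertible ((Scheme.Modules.pullback y.left).obj M') :=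
      Groth.L18.Ample.isInvertible_pullback y.left hM'
    have e : F M' hM' y = F _ hM'' (𝟙 A) := ext_val (by rw [val_F_id]; rfl)
    have hpt : (1 : 𝟙_ (Over (Spec (CommRingCat.of k))) ⟶ A) ≫ y ≫ t = a := by
      rw [reassoc_of% (MonObj.one_comp (X := 𝟙_ (Over (Spec (CommRingCat.of k)))) y), MonObj.comp_mul,
        Category.comp_id, ← Category.assoc, toUnit_unique ((1 : 𝟙_ _ ⟶ A) ≫ toUnit A) (𝟙 _), Category.id_comp,
        _root_.one_mul]
    have hne : s'' ≠ 0 := ne_zero_of_mem_genLocus hM'' (x := Groth.L08.Cube.kpt (1 : 𝟙_ _ ⟶ A)) (by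
      rw [show CohB1.genLocus _ s'' = y.left ⁻¹ᵁ CohB1.genLocus _ s' from Groth.L18.Ample.genLocus_pullHom y.left hM' s',
        show CohB1.genLocus _ s' = t.left ⁻¹ᵁ CohB1.genLocus M s from Groth.L18.Ample.genLocus_pullHom t.left hM s]
      show t.left (y.left ((1 : 𝟙_ _ ⟶ A).left (IsLocalRing.closedPoint k))) ∈ CohB1.genLocus M s
      rw [← Scheme.Hom.comp_apply, ← Scheme.Hom.comp_apply, ← Over.comp_left, ← Over.comp_left, hpt]
      show Groth.L08.Cube.kpt a ∈ CohB1.genLocus M s
      rw [ha]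
      exact hp)
    by_cases hiso : IsIso s''
    · have h0 : F M' hM' y = 0 := by
        rw [e]
        refine ext_val ?_
        rw [val_F_id]
        exact (PicGrp.cl_eq_cl_iff _ _).2 ⟨(asIso s'').symm⟩
      rw [h0, map_zero]
    · rw [e]
      exact (tr_pos hg L hL hg1 _ hM'' s'' hne hiso).le
  haveI : IsMonHom x⁻¹ := by
    have h := EndAV.Hom.isMonHom_toHom (-EndAV.End.of x)
    rwa [show EndAV.Hom.toHom (-EndAV.End.of x) = x⁻¹ from rfl] at h
  rw [← hbil, bil_self, map_add]
  exact add_nonneg (key x) (key x⁻¹)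

include hL in
/-- A sum of nonzero squares is given by an effective class. -/
theorem exists_effective {n : ℕ} (z : Fin (n + 1) → (A ⟶ A)) [∀ i, IsMonHom (z i)] (hz : ∀ i, z i ≠ 1) :
    ∃ (N : ℕ) (M : A.left.Modules) (hM : PicF.IsInvertible M) (s : Coh.structureModule A.left ⟶ M),
      1 ≤ N ∧ s ≠ 0 ∧ ¬ IsIso s ∧
      ∀ {W : Over (Spec (CommRingCat.of k))} (f f' : W ⟶ A),
        bil M hM f f' = ∑ i, N • bil L hL.1 (f ≫ z i) (f' ≫ z i) := by
  haveI : IsIntegral A.left := GeometricallyIntegral.isIntegral_of_subsingleton A.hom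
  induction n with
  | zero =>
    obtain ⟨N, s, hN, hs, hs'⟩ := Positive.exists_section_pow L hL (z 0) (hz 0)
    have hM := Groth.L18.Ample.isInvertible_tensorPow (Groth.L18.Ample.isInvertible_pullback (z 0).left hL.1) N
    refine ⟨N, _, hM, s, hN, hs, hs', fun {W} f f' => ?_⟩
    rw [Fin.sum_univ_one]
    exact bil_pull_pow hL.1 hM (z 0) N (by rw [Groth.L08.Cube.cl_tensorPow]; rfl) f f'
  | succ n ih =>
    obtain ⟨N, M, hM, s, hN, hs, hs', hbil⟩ := ih (fun i => z i.succ) fun i => hz _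
    obtain ⟨N₀, s₀, hN₀, hs₀, hs₀'⟩ := Positive.exists_section_pow L hL (z 0) (hz 0)
    have hL₀ : PicF.IsInvertible ((Scheme.Modules.pullback (z 0).left).obj L) :=
      Groth.L18.Ample.isInvertible_pullback (z 0).left hL.1
    have hM₀ := Groth.L18.Ample.isInvertible_tensorPow hL₀ N₀
    obtain ⟨b, rfl⟩ : ∃ b, N = b + 1 := ⟨N - 1, by omega⟩
    obtain ⟨b₀, rfl⟩ : ∃ b₀, N₀ = b₀ + 1 := ⟨N₀ - 1, by omega⟩
    have h1 := Groth.L18.Ample.isInvertible_tensorPow hM (b₀ + 1)
    have h2 := Groth.L18.Ample.isInvertible_tensorPow hM₀ (b + 1)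
    have hT := Groth.L18.GenLoc.isInvertible_tensor h2 h1
    let t := Groth.L18.GenLoc.tensHom (Groth.L18.Ample.pw s₀ (b + 1)) (Groth.L18.Ample.pw s (b₀ + 1))
    have hgl : CohB1.genLocus _ t = CohB1.genLocus _ s₀ ⊓ CohB1.genLocus M s := by
      rw [show CohB1.genLocus _ t = _ from Groth.L18.GenLoc.genLocus_tensHom h2 h1 _ _,
        Groth.L18.Ample.genLocus_pw_succ hM₀, Groth.L18.Ample.genLocus_pw_succ hM]
    refine ⟨(b + 1) * (b₀ + 1), _, hT, t, one_le_mul (Nat.le_add_left _ _) (Nat.le_add_left _ _), ?_, ?_, ?_⟩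
    · refine ne_zero_of_mem_genLocus hT (x := genericPoint A.left) ?_
      rw [hgl]
      exact ⟨Positive.genericPoint_mem_genLocus hM₀ hs₀, Positive.genericPoint_mem_genLocus hM hs⟩
    · intro hiso
      obtain ⟨x, hx⟩ := Positive.genLocus_ne_top hM hs hs'
      have h3 : x ∈ CohB1.genLocus _ t := (Groth.L21.RR.mem_genLocus_iff hT t x).2
        ((Groth.L21.Mod.isIso_iff_stalk_bijective t).1 hiso x).2
      rw [hgl] at h3
      exact hx h3.2
    · intro W f f'
      have hF : ∀ φ : W ⟶ A, F _ hT φ =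
          ((b + 1) * (b₀ + 1)) • F L hL.1 (φ ≫ z 0) + (b₀ + 1) • F M hM φ := fun φ => ext_val (by
        show PicF.pullCl φ.left (PicF.cl (CohB1.tensorPow (CohB1.tensorPow _ (b₀ + 1)) (b + 1)) *
            PicF.cl (CohB1.tensorPow M (b₀ + 1))) = (((b + 1) * (b₀ + 1)) • F L hL.1 (φ ≫ z 0)).toMul.1 * ((b₀ + 1) • F M hM φ).toMul.1
        rw [Groth.L08.Cube.pullCl_mul, val_nsmul, val_nsmul, Groth.L08.Cube.cl_tensorPow,
          Groth.L08.Cube.cl_tensorPow, Groth.L08.Cube.cl_tensorPow]
        have hp : ∀ (c : PicF.Cl A.left) (j : ℕ), PicF.pullCl φ.left (c ^ j) = PicF.pullCl φ.left c ^ j := fun c j =>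
          map_pow (⟨⟨PicF.pullCl φ.left, Groth.L08.Cube.pullCl_one _⟩, Groth.L08.Cube.pullCl_mul _⟩ :
            PicF.Cl A.left →* PicF.Cl W.left) c j
        rw [hp, hp, hp, ← pow_mul, mul_comm (b₀ + 1) (b + 1)]
        show PicF.pullCl φ.left (PicF.pullCl (z 0).left (PicF.cl L)) ^ _ * _ = PicF.pullCl (φ ≫ z 0).left (PicF.cl L) ^ _ * _
        rw [Over.comp_left, PicLoc.pullCl_comp]
        rfl)
      show F _ hT (f * f') - F _ hT f - F _ hT f' = _
      rw [hF, hF, hF, Fin.sum_univ_succ, MonObj.mul_comp, F_mul, F_mul, smul_add, smul_add, smul_add, smul_add,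
        hbil f f', Finset.smul_sum]
      simp only [smul_smul, mul_comm (b₀ + 1) (b + 1)]
      abel

end Groth.Agent.Poincare.RosatiEffective
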