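import Groth.Agent.L26.Poincare.Rosati
import Groth.Agent.L26.Poincare.Positive
import Groth.Agent.L26.Poincare.Product

/-!
# Positivity of the trace
-/

set_option autoImplicit false
set_option linter.style.haveILetI false
set_option linter.unusedSectionVars false
set_option backward.isDefEq.respectTransparency false

universe u

open CategoryTheory CategoryTheory.Limits MonoidalCategory CartesianMonoidalCategory AlgebraicGeometry
open scoped MonObj

noncomputable section

namespace Groth.Agent.Poincare.RosatiPos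

open Groth.Agent.AV Orth DegreeForm Rosati

attribute [local instance] Groth.L08.Cube.clMonoid InterPic.picLaw

variable {k : Type u} [Field k] {A : Over (Spec (CommRingCat.of k))}
  [GrpObj A] [IsCommMonObj A] [IsProper A.hom] [GeometricallyIntegral A.hom]
  {g : ℕ} (hA : topologicalKrullDim A.left = g)

include hA

/-- An abelian variety with a nontrivial endomorphism has positive dimension. -/
theorem one_le_dim {φ : A ⟶ A} [IsMonHom φ] (hφ : φ ≠ 1) : 1 ≤ g := by
  refine Nat.one_le_iff_ne_zero.2 fun h => hφ ?_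
  haveI := Product.subsingleton_of_dim_zero A (by rw [hA, h]; rfl)
  rw [← Category.id_comp φ, HomFin.id_eq_one_of_subsingleton A, MonObj.one_comp φ]

variable (L : A.left.Modules) (hamp : CohB1.IsAmple L)
include hamp

/-- The trace of a positive divisor is positive. -/
theorem tr_pos (hg : 1 ≤ g) (M : A.left.Modules) (hM : PicF.IsInvertible M) (s : Coh.structureModule A.left ⟶ M)
    (hs : s ≠ 0) (hs' : ¬ IsIso s) : 0 < tr L hamp.1 hA (F M hM (𝟙 A)) := by
  haveI : IsIntegral A.left := GeometricallyIntegral.isIntegral_of_subsingleton A.hom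
  letI : A.left.Over (Spec (CommRingCat.of k)) := ⟨A.hom⟩
  haveI : IsProper (A.left ↘ Spec (CommRingCat.of k)) := inferInstanceAs (IsProper A.hom)
  obtain ⟨r, rfl⟩ : ∃ r, g = r + 1 := ⟨g - 1, by omega⟩
  refine div_pos (Finset.sum_pos (fun i _ => ?_) ⟨0, Finset.mem_univ _⟩) (DegreeForm.altT_pos L hamp hA)
  have h1 := Positive.altT_cons_pos k hA (fun _ : Fin r => L) (fun _ => hamp) hM s hs hs'
  rw [InterPic.inter_apply, InterPic.interFun_eq k (Function.update (fun _ => L) i M) fun l => ?_]
  · rw [← InterPic.altT_perm k (Function.update (fun _ => L) i M) (Equiv.swap 0 i)]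
    refine h1.trans_eq (congrArg (fun z => Groth.L22.Inter.altT k z _) (funext fun l => ?_))
    refine Fin.cases ?_ (fun l => ?_) l
    · rw [Fin.cons_zero, Equiv.swap_apply_left, Function.update_self]
    · rw [Fin.cons_succ, Function.update_of_ne]
      intro h
      have h' : Equiv.swap 0 i l.succ = Equiv.swap 0 i 0 := h.trans (Equiv.swap_apply_left 0 i).symm
      exact Fin.succ_ne_zero l ((Equiv.swap 0 i).injective h')
  · rcases eq_or_ne l i with rfl | hl
    · rw [Function.update_self, Function.update_self, val_F_id]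
    · rw [Function.update_of_ne hl, Function.update_of_ne hl, val_F_id]

/-- The trace of the pullback of the ample class under a nontrivial homomorphism is positive. -/
theorem tr_F_pos (φ : A ⟶ A) [IsMonHom φ] (hφ : φ ≠ 1) : 0 < tr L hamp.1 hA (F L hamp.1 φ) := by
  obtain ⟨N, s, hN, hs, hs'⟩ := Positive.exists_section_pow L hamp φ hφ
  have hM := Groth.L18.Ample.isInvertible_tensorPow (Groth.L18.Ample.isInvertible_pullback φ.left hamp.1) N
  have h := tr_pos hA L hamp (one_le_dim hA hφ) _ hM s hs hs'
  rw [show F (CohB1.tensorPow ((Scheme.Modules.pullback φ.left).obj L) N) hM (𝟙 A) = N • F L hamp.1 φ from ext_val (by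
    rw [val_nsmul, val_F_id, Groth.L08.Cube.cl_tensorPow]; rfl), map_nsmul, nsmul_eq_mul] at h
  exact pos_of_mul_pos_right h (Nat.cast_nonneg N)

omit hA hamp

/-- The pairing of a power of a pullback. -/
theorem bil_pull_pow {M N : A.left.Modules} (hM : PicF.IsInvertible M) (hN : PicF.IsInvertible N) (φ : A ⟶ A)
    [IsMonHom φ] (n : ℕ) (h : PicF.cl N = PicF.pullCl φ.left (PicF.cl M) ^ n)
    {W : Over (Spec (CommRingCat.of k))} (f f' : W ⟶ A) :
    bil N hN f f' = n • bil M hM (f ≫ φ) (f' ≫ φ) := by
  have hF : ∀ ψ : W ⟶ A, F N hN ψ = n • F M hM (ψ ≫ φ) := fun ψ => ext_val (by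
    rw [val_nsmul]
    show PicF.pullCl ψ.left (PicF.cl N) = PicF.pullCl (ψ ≫ φ).left (PicF.cl M) ^ n
    rw [h, Over.comp_left, PicLoc.pullCl_comp]
    exact map_pow (⟨⟨PicF.pullCl ψ.left, Groth.L08.Cube.pullCl_one _⟩, Groth.L08.Cube.pullCl_mul _⟩ :
      PicF.Cl A.left →* PicF.Cl W.left) _ n)
  show F N hN (f * f') - F N hN f - F N hN f' = _
  rw [hF, hF, hF, MonObj.mul_comp, F_mul]
  simp only [smul_add]
  abel

/-- A section with nonempty locus of generation is nonzero. -/
theorem ne_zero_of_mem_genLocus {X : Scheme.{u}} [IsIntegral X] {M : X.Modules} (hM : PicF.IsInvertible M)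
    {s : Coh.structureModule X ⟶ M} {x : X} (hx : x ∈ CohB1.genLocus M s) : s ≠ 0 := fun h0 => by
  obtain ⟨e, he⟩ := Groth.L21.RR.exists_frame_stalk hM x
  obtain ⟨v, hv⟩ := (Groth.L21.RR.mem_genLocus_iff hM s x).1 hx e
  rw [h0, Groth.L21.RR.st, Functor.map_zero] at hv
  refine one_ne_zero (he.1 (a₁ := 1) (a₂ := 0) ?_)
  simp only [one_smul, zero_smul]
  exact hv.symm

end Groth.Agent.Poincare.RosatiPos
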