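import Groth.Agent.L26.Poincare.RosatiTrace
import Groth.Agent.L26.Poincare.RosatiEffective
import Groth.Agent.L26.Misc.PosInv
import Mathlib.LinearAlgebra.TensorProduct.Tower
import Mathlib.RingTheory.TensorProduct.Finite
import Mathlib.Algebra.Ring.Subring.Basic

/-!
# Positive symmetric endomorphisms are sums of squares
-/

set_option autoImplicit false
set_option linter.style.haveILetI false
set_option linter.unusedSectionVars false
set_option backward.isDefEq.respectTransparency false

universe u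

open CategoryTheory CategoryTheory.Limits MonoidalCategory CartesianMonoidalCategory AlgebraicGeometry
open scoped MonObj TensorProduct

noncomputable section

namespace Groth.Agent.Poincare.RosatiSquares

section Abstract

variable {E R : Type*} [Ring E] [Ring R] [Algebra ℚ R] (f : E →+* R) (x : E)

theorem commute_of_mem {z w : E} (hz : z ∈ Subring.closure ({x} : Set E)) (hw : w ∈ Subring.closure ({x} : Set E)) :
    Commute z w := by
  have h1 : Commute z x := by
    induction hz using Subring.closure_induction with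
    | mem a ha => rw [Set.mem_singleton_iff.1 ha]
    | zero => exact Commute.zero_left x
    | one => exact Commute.one_left x
    | add a b _ _ ha hb => exact ha.add_left hb
    | neg a _ ha => exact ha.neg_left
    | mul a b _ _ ha hb => exact ha.mul_left hb
  induction hw using Subring.closure_induction with
  | mem a ha => rw [Set.mem_singleton_iff.1 ha]; exact h1
  | zero => exact Commute.zero_right z
  | one => exact Commute.one_right z
  | add a b _ _ ha hb => exact ha.add_right hb
  | neg a _ ha => exact ha.neg_right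
  | mul a b _ _ ha hb => exact ha.mul_right hb

theorem adjoin_lattice {a : R} (ha : a ∈ Algebra.adjoin ℚ ({f x} : Set R)) :
    ∃ (d : ℕ) (z : E), 0 < d ∧ z ∈ Subring.closure ({x} : Set E) ∧ (d : ℚ) • a = f z := by
  induction ha using Algebra.adjoin_induction with
  | mem a ha =>
    exact ⟨1, x, Nat.one_pos, Subring.subset_closure rfl, by rw [Nat.cast_one, one_smul, Set.mem_singleton_iff.1 ha]⟩
  | algebraMap q =>
    refine ⟨q.den, (q.num : E), q.den_pos, intCast_mem _ _, ?_⟩
    rw [map_intCast, Algebra.smul_def, ← map_mul, mul_comm, Rat.mul_den_eq_num, map_intCast]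
  | add a b _ _ ha hb =>
    obtain ⟨d, z, hd, hz, e⟩ := ha
    obtain ⟨d', z', hd', hz', e'⟩ := hb
    refine ⟨d * d', d' • z + d • z', Nat.mul_pos hd hd', add_mem (nsmul_mem hz _) (nsmul_mem hz' _), ?_⟩
    rw [smul_add, map_add, map_nsmul, map_nsmul, ← e, ← e', ← Nat.cast_smul_eq_nsmul ℚ, ← Nat.cast_smul_eq_nsmul ℚ,
      smul_smul, smul_smul]
    push_cast
    rw [mul_comm (d' : ℚ) (d : ℚ)]
  | mul a b _ _ ha hb =>
    obtain ⟨d, z, hd, hz, e⟩ := ha
    obtain ⟨d', z', hd', hz', e'⟩ := hb
    refine ⟨d * d', z * z', Nat.mul_pos hd hd', mul_mem hz hz', ?_⟩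
    rw [map_mul, ← e, ← e', smul_mul_smul_comm]
    push_cast
    rfl

theorem adjoin_comm {a b : R} (ha : a ∈ Algebra.adjoin ℚ ({f x} : Set R))
    (hb : b ∈ Algebra.adjoin ℚ ({f x} : Set R)) : a * b = b * a := by
  rw [Algebra.adjoin_singleton_eq_range_aeval] at ha hb
  obtain ⟨P, rfl⟩ := ha
  obtain ⟨Q, rfl⟩ := hb
  change Polynomial.aeval (f x) P * Polynomial.aeval (f x) Q = Polynomial.aeval (f x) Q * Polynomial.aeval (f x) P
  rw [← map_mul, ← map_mul, mul_comm]

variable [Module.Finite ℚ R]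

/-- A symmetric element whose form is positive semidefinite is, up to a factor, a sum of squares. -/
theorem exists_squares (hf : Function.Injective f) (σ : R →ₗ[ℚ] ℚ)
    (hpos : ∀ z ∈ Subring.closure ({x} : Set E), z ≠ 0 → 0 < σ (f (z * z)))
    (hnn : ∀ z ∈ Subring.closure ({x} : Set E), 0 ≤ σ (f (x * z * z))) :
    ∃ (d n : ℕ) (z : Fin n → E), 0 < d ∧ (∀ i, z i ∈ Subring.closure ({x} : Set E)) ∧ d • x = ∑ i, z i * z i := by
  let S := Algebra.adjoin ℚ ({f x} : Set R)
  letI : CommRing S :=
    { (inferInstance : Ring S) with mul_comm := fun a b => Subtype.ext (adjoin_comm f x a.2 b.2) }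
  have hτ : ∀ a : S, a ≠ 0 → 0 < σ.comp S.val.toLinearMap (a * a) := fun a ha => by
    obtain ⟨d, z, hd, hz, e⟩ := adjoin_lattice f x a.2
    have hd' : (0 : ℚ) < d := Nat.cast_pos.2 hd
    have hz0 : z ≠ 0 := fun h => ha (Subtype.ext (by
      rw [h, map_zero, smul_eq_zero] at e
      exact e.resolve_left hd'.ne'))
    have h := hpos z hz hz0
    rw [map_mul f, ← e, smul_mul_smul_comm, map_smul, smul_eq_mul] at h
    exact pos_of_mul_pos_right h (mul_nonneg hd'.le hd'.le)
  have hss : IsSumSq (⟨f x, Algebra.self_mem_adjoin_singleton ℚ (f x)⟩ : S) := by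
    refine Groth.L26.PosForm.isSumSq_of_form_nonneg (τ := σ.comp S.val.toLinearMap) hτ fun a => ?_
    obtain ⟨d, z, hd, hz, e⟩ := adjoin_lattice f x a.2
    have hd' : (0 : ℚ) < d := Nat.cast_pos.2 hd
    have h := hnn z hz
    rw [map_mul f, map_mul f, ← e] at h
    simp only [mul_smul_comm, smul_mul_assoc, map_smul, smul_eq_mul] at h
    exact nonneg_of_mul_nonneg_right (nonneg_of_mul_nonneg_right h hd') hd'
  have key : ∀ s : S, IsSumSq s → ∃ (d n : ℕ) (z : Fin n → E), 0 < d ∧
      (∀ i, z i ∈ Subring.closure ({x} : Set E)) ∧ ((d * d : ℕ) : ℚ) • (s : R) = f (∑ i, z i * z i) := by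
    intro s hs
    induction hs using IsSumSq.rec' with
    | zero => exact ⟨1, 0, fun i => i.elim0, Nat.one_pos, fun i => i.elim0, by simp⟩
    | @sq_add a b ha hb ih =>
      obtain ⟨a, rfl⟩ := ha
      obtain ⟨d, n, z, hd, hz, e⟩ := ih
      obtain ⟨d', w, hd', hw, e'⟩ := adjoin_lattice f x a.2
      refine ⟨d * d', n + 1, Fin.cons (d • w) (fun i => d' • z i), Nat.mul_pos hd hd', fun i => ?_, ?_⟩
      · cases i using Fin.cases with
        | zero => simpa using nsmul_mem hw d
        | succ i => simpa using nsmul_mem (hz i) d'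
      · rw [Fin.sum_univ_succ]
        simp only [Fin.cons_zero, Fin.cons_succ, smul_mul_smul_comm, ← Finset.smul_sum]
        rw [map_add, map_nsmul, map_nsmul, ← e, map_mul, ← e', smul_mul_smul_comm,
          ← Nat.cast_smul_eq_nsmul ℚ, ← Nat.cast_smul_eq_nsmul ℚ, smul_smul, smul_smul]
        show _ • ((a : R) * (a : R) + (b : R)) = _
        rw [smul_add]
        push_cast
        congr 2 <;> ring
  obtain ⟨d, n, z, hd, hz, e⟩ := key _ hss
  refine ⟨d * d, n, z, Nat.mul_pos hd hd, hz, hf ?_⟩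
  rw [map_nsmul, ← Nat.cast_smul_eq_nsmul ℚ]
  exact e

end Abstract

open Groth.Agent.AV Orth DegreeForm Rosati RosatiTrace

attribute [local instance] Groth.L08.Cube.clMonoid InterPic.picLaw

variable {k : Type u} [Field k] [IsAlgClosed k] {A : Over (Spec (CommRingCat.of k))}
  [GrpObj A] [IsCommMonObj A] [IsProper A.hom] [GeometricallyIntegral A.hom]
  (L : A.left.Modules) (hL : CohB1.IsAmple L) {g : ℕ} (hg : topologicalKrullDim A.left = g)

/-- Self adjointness. -/
def Sym (z : EndAV.End A) : Prop :=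
  ∀ {W : Over (Spec (CommRingCat.of k))} (f f' : W ⟶ A), bil L hL.1 f (f' ≫ z.toHom) = bil L hL.1 (f ≫ z.toHom) f'

theorem sym_of_mem {α : EndAV.End A} (hα : Sym L hL α) {z : EndAV.End A}
    (hz : z ∈ Subring.closure ({α} : Set (EndAV.End A))) : Sym L hL z := by
  induction hz using Subring.closure_induction with
  | mem a ha => rw [Set.mem_singleton_iff.1 ha]; exact hα
  | zero => intro W f f'; rw [EndAV.End.toHom_zero, MonObj.comp_one, MonObj.comp_one, bil_one_right, bil_one_left]
  | one => intro W f f'; rw [EndAV.End.toHom_one, Category.comp_id, Category.comp_id]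
  | add a b _ _ ha hb =>
    intro W f f'
    rw [EndAV.End.toHom_add, MonObj.comp_mul, MonObj.comp_mul, bil_mul_right, bil_mul_left, ha, hb]
  | neg a _ ha =>
    intro W f f'
    rw [EndAV.End.toHom_neg, GrpObj.comp_inv, GrpObj.comp_inv, bil_inv_right, bil_inv_left, ha]
  | mul a b ha' hb' ha hb =>
    intro W f f'
    conv_rhs => rw [(commute_of_mem α ha' hb').eq]
    rw [EndAV.End.toHom_mul, EndAV.End.toHom_mul, ← Category.assoc, ha, hb, Category.assoc]

variable (hsym : Groth.L08.Cube.pc L (𝟙 A)⁻¹ = Groth.L08.Cube.pc L (𝟙 A))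

/-- The trace on conjugates. -/
theorem trEnd_conj {z : EndAV.End A} (hz : Sym L hL z) (x : EndAV.End A) :
    trEnd L hL hg (z * x * z) = tr L hL.1 hg (bil L hL.1 z.toHom (z.toHom ≫ x.toHom)) := by
  show tr L hL.1 hg _ = _
  refine congrArg _ ?_
  rw [Adjoint.bil_comm, EndAV.End.toHom_mul, EndAV.End.toHom_mul,
    show z.toHom ≫ x.toHom ≫ z.toHom = (z.toHom ≫ x.toHom) ≫ z.toHom from (Category.assoc _ _ _).symm, hz,
    Category.id_comp]

include hsym in
/-- The trace form is positive definite on symmetric elements. -/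
theorem trEnd_sq_pos {z : EndAV.End A} (hz : Sym L hL z) (hz0 : z ≠ 0) : 0 < trEnd L hL hg (z * z) := by
  have hz' : z.toHom ≠ 1 := fun h => hz0 (EndAV.End.ext (h.trans EndAV.End.toHom_zero.symm))
  have h := trEnd_conj L hL hg hz 1
  rw [_root_.mul_one, EndAV.End.toHom_one, Category.comp_id] at h
  rw [h, show bil L hL.1 z.toHom z.toHom = _ from Bil_self L hL.1 hsym z.toHom, map_zsmul, zsmul_eq_mul]
  exact mul_pos (by norm_num) (RosatiPos.tr_F_pos hg L hL _ hz')

include hsym in
/-- Positive symmetric endomorphisms are sums of squares up to a factor. -/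
theorem exists_squares_of_pos (α : EndAV.End A) (hα : Sym L hL α)
    (hnn : ∀ z : EndAV.End A, 0 ≤ tr L hL.1 hg (bil L hL.1 z.toHom (z.toHom ≫ α.toHom))) :
    ∃ (d n : ℕ) (z : Fin n → EndAV.End A), 0 < d ∧
      (∀ i, z i ∈ Subring.closure ({α} : Set (EndAV.End A))) ∧ d • α = ∑ i, z i * z i := by
  haveI : Module.Finite ℤ (EndAV.End A) := CharMin.free_end.2
  haveI : Module.Finite ℚ (EndAV.End0 A) := Module.Finite.base_change ℤ ℚ (EndAV.End A)
  let σ : EndAV.End0 A →ₗ[ℚ] ℚ := (trEnd L hL hg).toIntLinearMap.liftBaseChange ℚ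
  have hσ : ∀ z, σ (EndAV.toEnd0 z) = trEnd L hL hg z := fun z => by
    show σ ((1 : ℚ) ⊗ₜ[ℤ] z) = _
    rw [LinearMap.liftBaseChange_tmul, one_smul]
    rfl
  refine exists_squares (EndAV.toEnd0 (A := A)).toRingHom α CharMin.toEnd0_injective σ (fun z hz hz0 => ?_)
    (fun z hz => ?_)
  · show 0 < σ (EndAV.toEnd0 (z * z))
    rw [hσ]
    exact trEnd_sq_pos L hL hg hsym (sym_of_mem L hL hα hz) hz0
  · show 0 ≤ σ (EndAV.toEnd0 (α * z * z))
    rw [hσ, (commute_of_mem α (Subring.subset_closure (Set.mem_singleton α)) hz).eq,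
      trEnd_conj L hL hg (sym_of_mem L hL hα hz)]
    exact hnn z

include hsym in
/-- A kernel vector of a semidefinite self adjoint form. -/
theorem eq_one_of_tr_eq_zero (β : EndAV.End A) (hβ : Sym L hL β)
    (hnn : ∀ z : EndAV.End A, 0 ≤ tr L hL.1 hg (bil L hL.1 z.toHom (z.toHom ≫ β.toHom)))
    (z : EndAV.End A) (hz : tr L hL.1 hg (bil L hL.1 z.toHom (z.toHom ≫ β.toHom)) = 0) : β * z = 0 := by
  let B : EndAV.End A → EndAV.End A → ℚ := fun u v => tr L hL.1 hg (bil L hL.1 u.toHom (v.toHom ≫ β.toHom))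
  have hcomm : ∀ u v, B u v = B v u := fun u v => congrArg (tr L hL.1 hg) (by rw [hβ, Adjoint.bil_comm])
  have hadd : ∀ u u' v, B (u + u') v = B u v + B u' v := fun u u' v => by
    show tr L hL.1 hg _ = tr L hL.1 hg _ + tr L hL.1 hg _
    rw [EndAV.End.toHom_add, bil_mul_left, map_add]
  have hadd' : ∀ u v v', B u (v + v') = B u v + B u v' := fun u v v' => by
    rw [hcomm, hadd, hcomm u v, hcomm u v']
  have hsm : ∀ (n : ℤ) u v, B (n • u) v = n * B u v := fun n u v => by
    let φ : EndAV.End A →+ ℚ := AddMonoidHom.mk' (fun u => B u v) (fun u u' => hadd u u' v)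
    show φ (n • u) = n * φ u
    rw [map_zsmul, zsmul_eq_mul]
  have hnn' : ∀ u, 0 ≤ B u u := hnn
  let v := β * z
  have hzero : B z v = 0 := by
    have hb : ∀ n : ℤ, 0 ≤ 2 * (n : ℚ) * B z v + B v v := fun n => by
      have h := hnn' (n • z + v)
      rw [hadd, hadd', hadd', hsm, hsm, hcomm z (n • z), hsm, hcomm v (n • z), hsm,
        show B z z = 0 from hz] at h
      linarith
    by_contra hne
    rcases lt_or_gt_of_ne hne with hlt | hgt
    · have h := hb (⌈B v v / (-(2 * B z v))⌉ + 1)
      have h1 := Int.le_ceil (B v v / (-(2 * B z v)))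
      rw [div_le_iff₀ (by linarith)] at h1
      push_cast at h
      nlinarith
    · have h := hb (-(⌈B v v / (2 * B z v)⌉ + 1))
      have h1 := Int.le_ceil (B v v / (2 * B z v))
      rw [div_le_iff₀ (by linarith)] at h1
      push_cast at h
      nlinarith
  rw [hcomm] at hzero
  by_contra hne
  have hne' : (β * z).toHom ≠ 1 := fun h => hne (EndAV.End.ext (h.trans EndAV.End.toHom_zero.symm))
  change tr L hL.1 hg (bil L hL.1 (β * z).toHom (β * z).toHom) = 0 at hzero
  rw [show bil L hL.1 (β * z).toHom (β * z).toHom = _ from Bil_self L hL.1 hsym _, map_zsmul, zsmul_eq_mul] at hzero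
  exact (mul_pos (by norm_num) (RosatiPos.tr_F_pos hg L hL _ hne')).ne' hzero

end Groth.Agent.Poincare.RosatiSquares
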