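import Groth.Agent.L26.Poincare.RosatiPos
import Groth.Agent.L26.AV.SimpleSubalg
import Groth.Agent.L26.AV.CharMin
import Groth.Agent.S15673

/-!
# The trace is the trace on the Tate module, hence commutative
-/

set_option autoImplicit false
set_option linter.style.haveILetI false
set_option linter.unusedSectionVars false
set_option backward.isDefEq.respectTransparency false

universe u

open CategoryTheory CategoryTheory.Limits MonoidalCategory CartesianMonoidalCategory AlgebraicGeometry
open scoped MonObj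

noncomputable section

namespace Groth.Agent.Poincare.RosatiTrace

open Groth.Agent.AV Orth DegreeForm Rosati

attribute [local instance] Groth.L08.Cube.clMonoid InterPic.picLaw

variable {k : Type u} [Field k] [IsAlgClosed k] {A : Over (Spec (CommRingCat.of k))}
  [GrpObj A] [IsCommMonObj A] [IsProper A.hom] [GeometricallyIntegral A.hom]
  (L : A.left.Modules) (hL : CohB1.IsAmple L)
  {g : ℕ} (hg : topologicalKrullDim A.left = g)

/-- The trace of an endomorphism. -/
def trEnd : EndAV.End A →+ ℚ :=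
  AddMonoidHom.mk' (fun γ => tr L hL.1 hg (bil L hL.1 γ.toHom (𝟙 A))) fun γ δ => by
    rw [EndAV.End.toHom_add, bil_mul_left, map_add]

variable (hsym : Groth.L08.Cube.pc L (𝟙 A)⁻¹ = Groth.L08.Cube.pc L (𝟙 A))
include hsym

/-- The trace is the trace of the Tate representation. -/
theorem exists_int (hg1 : 1 ≤ g) (l : ℕ) [Fact l.Prime] (hl : (l : k) ≠ 0)
    [Module.Free ℤ_[l] (AbDual.TateMod A l (Isogeny.geomPt k k))]
    [Module.Finite ℤ_[l] (AbDual.TateMod A l (Isogeny.geomPt k k))] (γ : EndAV.End A) :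
    ∃ t : ℤ, trEnd L hL hg γ = t ∧
      LinearMap.trace ℤ_[l] _ (EndAV.End.tateRep l (Isogeny.geomPt k k) γ) = (t : ℤ_[l]) := by
  haveI : IsIntegral A.left := GeometricallyIntegral.isIntegral_of_subsingleton A.hom
  obtain ⟨P₀, hm, hv, hc, -⟩ := CharTateExt.exists_char k γ.toHom
  have hch := (hc l hl).1
  obtain ⟨-, hd⟩ := CharMin.natDegree_char k l hl hg _ P₀ hch
  have hev : ∀ (x : ℚ), ((P₀.map (Int.castRingHom ℚ)).comp (-Polynomial.X)).eval x =
      (P₀.map (Int.castRingHom ℚ)).eval (-x) := fun x => by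
    rw [Polynomial.eval_comp, Polynomial.eval_neg, Polynomial.eval_X]
  have hco := coeff_eq L hL.1 hg hL hsym hg1 γ ((P₀.map (Int.castRingHom ℚ)).comp (-Polynomial.X)) fun j => by
    have e : (γ + (j : EndAV.End A)).toHom = γ.toHom * 𝟙 A ^ (-(-j)) := by
      rw [EndAV.End.toHom_add, EndAV.End.toHom_intCast, neg_neg]
    have hz : ((P₀.map (Int.castRingHom ℚ)).comp (-Polynomial.X)).eval (j : ℚ) = ((P₀.eval (-j) : ℤ) : ℚ) := by
      rw [hev, ← Int.cast_neg, Polynomial.eval_intCast_map]
      rfl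
    rw [e, hz]
    exact ⟨fun h a => by rw [← (hv (-j)).1 h a, Int.cast_natCast], fun h => by rw [(hv (-j)).2 h, Int.cast_zero]⟩
  refine ⟨-P₀.coeff (2 * g - 1), ?_, ?_⟩
  · have hX : (-Polynomial.X : Polynomial ℚ) = Polynomial.C (-1 : ℚ) * Polynomial.X := by simp
    rw [hX, Polynomial.comp_C_mul_X_coeff, Polynomial.coeff_map,
      Odd.neg_one_pow (⟨g - 1, by omega⟩ : Odd (2 * g - 1))] at hco
    show tr L hL.1 hg _ = _
    rw [← hco]
    push_cast
    simp
  · have h1 := congrArg Polynomial.nextCoeff hch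
    rw [Groth.Agent.S15673.nextCoeff_eq, Polynomial.nextCoeff_map (RingHom.injective_int _),
      Polynomial.nextCoeff_of_natDegree_pos (p := P₀) (by omega), hd, neg_eq_iff_eq_neg] at h1
    push_cast
    exact h1

/-- The trace is commutative. -/
theorem trEnd_mul_comm (x y : EndAV.End A) : trEnd L hL hg (x * y) = trEnd L hL hg (y * x) := by
  rcases Nat.eq_zero_or_pos g with rfl | hg1
  · haveI := Product.subsingleton_of_dim_zero A (by rw [hg]; rfl)
    have h0 : ∀ z : EndAV.End A, z = 0 := fun z => EndAV.End.ext (by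
      rw [EndAV.End.toHom_zero, ← Category.id_comp z.toHom, HomFin.id_eq_one_of_subsingleton A, MonObj.one_comp z.toHom])
    rw [h0 (x * y), h0 (y * x)]
  obtain ⟨l, hlp, hl⟩ : ∃ l : ℕ, l.Prime ∧ (l : k) ≠ 0 := by
    by_cases h2 : ((2 : ℕ) : k) = 0
    · refine ⟨3, Nat.prime_three, fun h3 => one_ne_zero (α := k) ?_⟩
      push_cast at h2 h3
      linear_combination h3 - h2
    · exact ⟨2, Nat.prime_two, h2⟩
  haveI := Fact.mk hlp
  obtain ⟨_, _⟩ := SimpleSubalg.tate_instances k (A := A) l hl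
  obtain ⟨t, ht, ht'⟩ := exists_int L hL hg hsym hg1 l hl (x * y)
  obtain ⟨s, hs, hs'⟩ := exists_int L hL hg hsym hg1 l hl (y * x)
  rw [map_mul] at ht' hs'
  rw [LinearMap.trace_mul_comm] at ht'
  rw [ht, hs, Int.cast_injective (ht'.symm.trans hs')]

end Groth.Agent.Poincare.RosatiTrace
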