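import Groth.Agent.L26.Poincare.PullKernel
import Groth.Agent.L26.AV.TorsCard
import Groth.Agent.L26.AV.TorsPts
import Groth.Agent.L26.AV.SmoothField
import Groth.Agent.L08.Cube.SliceFibre

/-!
# Classes killed by multiplication by an invertible integer on an abelian variety
-/

set_option autoImplicit false
set_option linter.style.haveILetI false
set_option linter.unusedSectionVars false
set_option backward.isDefEq.respectTransparency false

universe u

open CategoryTheory CategoryTheory.Limits MonoidalCategory CartesianMonoidalCategory AlgebraicGeometry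
open scoped MonObj

noncomputable section

namespace Groth.Agent.Poincare.TorsionPic

open Groth.Agent.AV

variable {K : Type u} [Field K] [IsAlgClosed K] {B : Over (Spec (CommRingCat.of K))}
  [GrpObj B] [IsCommMonObj B] [IsProper B.hom] [GeometricallyIntegral B.hom]

/-- Translation by a rational point. -/
abbrev transl (z : 𝟙_ (Over (Spec (CommRingCat.of K))) ⟶ B) : B ⟶ B := 𝟙 B * (toUnit B ≫ z)

theorem comp_transl {T : Over (Spec (CommRingCat.of K))} (b : T ⟶ B) (z : 𝟙_ (Over (Spec (CommRingCat.of K))) ⟶ B) :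
    b ≫ transl z = b * (toUnit T ≫ z) := by
  rw [MonObj.comp_mul, Category.comp_id, ← Category.assoc, toUnit_unique (b ≫ toUnit B) (toUnit T)]

theorem appLE_congr {X Y : Scheme.{u}} {f f' : X ⟶ Y} (e : f = f') {V : Y.Opens} {W : X.Opens}
    (h : W ≤ f ⁻¹ᵁ V) (h' : W ≤ f' ⁻¹ᵁ V) (w : Γ(Y, V)) : f.appLE V W h w = f'.appLE V W h' w := by
  subst e; rfl

theorem appLE_appLE {X Y Z : Scheme.{u}} (f : X ⟶ Y) (g : Y ⟶ Z) (U : Z.Opens) (V : Y.Opens) (W : X.Opens)
    (h : W ≤ f ⁻¹ᵁ V) (h' : V ≤ g ⁻¹ᵁ U) (w : Γ(Z, U)) :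
    f.appLE V W h (g.appLE U V h' w) = (f ≫ g).appLE U W (h.trans (f.preimage_mono h')) w :=
  ((CommRingCat.comp_apply _ _ _).symm.trans
    (congr($(Scheme.Hom.appLE_comp_appLE f g U V W h' h) w)))

/-- At most `N ^ (2 g)` classes are killed by pullback along multiplication by `N`. -/
theorem card_le {g : ℕ} (hg : topologicalKrullDim B.left = g) (N : ℕ) (hN : (N : K) ≠ 0)
    (S : Finset (PicF.Cl B.left))
    (hS : ∀ c ∈ S, PicF.IsInvertibleCl c ∧ PicF.pullCl (𝟙 B ^ N).left c = PicF.cl (Coh.structureModule B.left)) :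
    S.card ≤ N ^ (2 * g) := by
  obtain ⟨_, _, _⟩ := Isogeny.finite_etale_surjective (A := B) N hN
  haveI : IsMonHom (𝟙 B ^ N) := Isogeny.isMonHom_pow N
  haveI : IsIntegral B.left := GeometricallyIntegral.isIntegral_of_subsingleton B.hom
  let G := AbDual.torsPts B N (𝟙_ (Over (Spec (CommRingCat.of K))))
  have hN1 : 1 ≤ N := Nat.one_le_iff_ne_zero.2 fun h => hN (by rw [h, Nat.cast_zero])
  haveI : Finite G := TorsPts.finite_torsPts (A := B) hN1
  have hcard : Nat.card G = N ^ (2 * g) := TorsCard.card_torsPts hg N hN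
  have hfix : ∀ z : G, transl z.1 ≫ (𝟙 B ^ N) = 𝟙 B ^ N := fun z => by
    rw [MonObj.comp_pow, Category.comp_id, _root_.mul_pow, ← MonObj.comp_pow, (AbDual.mem_torsPts B z.1).1 z.2,
      MonObj.comp_one, _root_.mul_one]
  have hfix' : ∀ z : G, (transl z.1).left ≫ (𝟙 B ^ N).left = (𝟙 B ^ N).left := fun z => by
    rw [← Over.comp_left, hfix]
  -- the kernel
  let P := pullback (𝟙 B ^ N) η[B]
  let i : P ⟶ B := pullback.fst (𝟙 B ^ N) η[B]
  have hsq : IsPullback i (toUnit P) (𝟙 B ^ N) η[B] := by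
    rw [toUnit_unique (toUnit P) (pullback.snd (𝟙 B ^ N) η[B])]
    exact IsPullback.of_hasPullback _ _
  haveI : IsIso (𝟙_ (Over (Spec (CommRingCat.of K)))).hom := inferInstanceAs (IsIso (𝟙 _))
  haveI : Etale P.hom := by
    rw [← Over.w (toUnit P)]
    exact (MorphismProperty.cancel_right_of_respectsIso @Etale _ (𝟙_ (Over (Spec (CommRingCat.of K)))).hom).2
      (MorphismProperty.of_isPullback (hsq.map (Over.forget _)) ‹Etale (𝟙 B ^ N).left›)
  haveI : Etale (fst B P).left :=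
    MorphismProperty.of_isPullback (Groth.L08.Cube.isPullback_prod B P).flip ‹Etale P.hom›
  haveI : Smooth B.hom :=
    haveI : GrpObj (Over.mk B.hom) := inferInstanceAs (GrpObj B)
    smooth_of_grpObj B.hom
  haveI : Smooth (B ⊗ P).hom := by
    rw [← Over.w (fst B P)]
    infer_instance
  haveI : IsReduced (B ⊗ P).left := isReduced_of_smooth_field (B ⊗ P).hom
  haveI : JacobsonSpace (B ⊗ P).left := LocallyOfFiniteType.jacobsonSpace (B ⊗ P).hom
  let p1 : B ⊗ P ⟶ B := fst B P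
  let p2 : B ⊗ P ⟶ B := fst B P * (snd B P ≫ i)
  have hkill : ∀ {T : Over (Spec (CommRingCat.of K))} (z : T ⟶ P), (z ≫ i) ^ N = 1 := fun z => by
    rw [show (z ≫ i) ^ N = (z ≫ i) ≫ 𝟙 B ^ N by rw [MonObj.comp_pow, Category.comp_id], Category.assoc,
      hsq.w, ← Category.assoc, Hom.one_def, toUnit_unique (z ≫ toUnit P) (toUnit _)]
  have hp : p2 ≫ (𝟙 B ^ N) = p1 ≫ (𝟙 B ^ N) := by
    rw [MonObj.comp_pow, Category.comp_id, MonObj.comp_pow, Category.comp_id, _root_.mul_pow, hkill,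
      _root_.mul_one]
  have hp' : p2.left ≫ (𝟙 B ^ N).left = p1.left ≫ (𝟙 B ^ N).left := by
    rw [← Over.comp_left, hp, Over.comp_left]
  rw [← hcard]
  refine PullKernel.card_le (g := (𝟙 B ^ N).left) B.hom (fun z : G => (transl z.1).left) hfix' ?_
    (Groth.L08.Cube.bijective_toGlobal_of_geometric B.hom) (fun z => Over.w (transl z.1)) ?_ ?_ S hS
  · intro V w hw R l l' W h h' e
    let O : (B ⊗ P).left.Opens := p1.left ⁻¹ᵁ ((𝟙 B ^ N).left ⁻¹ᵁ V)
    have hO : O ≤ p2.left ⁻¹ᵁ ((𝟙 B ^ N).left ⁻¹ᵁ V) := by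
      rw [← Scheme.Hom.comp_preimage, hp', Scheme.Hom.comp_preimage]
    have huniv : p1.left.appLE _ O le_rfl w = p2.left.appLE _ O hO w := by
      refine sub_eq_zero.1 ((basicOpen_eq_bot_iff _).1 (by_contra fun hne => ?_))
      obtain ⟨x, hxU, hx⟩ := nonempty_inter_closedPoints
        ((TopologicalSpace.Opens.ne_bot_iff_nonempty _).1 hne)
        (TopologicalSpace.Opens.isOpen _).isLocallyClosed
      obtain ⟨a, rfl⟩ := Groth.L08.Cube.exists_kpt (K := K) x hx
      have hz : (a ≫ snd B P ≫ i) ∈ G := by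
        rw [AbDual.mem_torsPts, ← Category.assoc]
        exact hkill _
      have hb : a ≫ p2 = (a ≫ p1) ≫ transl (a ≫ snd B P ≫ i) := by
        rw [comp_transl, toUnit_unique (toUnit _) (𝟙 _), Category.id_comp, MonObj.comp_mul]
      have htop : (⊤ : (𝟙_ (Over (Spec (CommRingCat.of K)))).left.Opens) ≤ a.left ⁻¹ᵁ O := fun p _ => by
        show a.left p ∈ O
        rw [show p = IsLocalRing.closedPoint K from Subsingleton.elim (α := PrimeSpectrum K) _ _]
        exact (B ⊗ P).left.basicOpen_le _ hxU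
      have key : a.left.appLE O ⊤ htop (p1.left.appLE _ O le_rfl w - p2.left.appLE _ O hO w) = 0 := by
        rw [map_sub, sub_eq_zero, appLE_appLE, appLE_appLE]
        have e2 : a.left ≫ p2.left = (a.left ≫ p1.left) ≫ (transl (a ≫ snd B P ≫ i)).left := by
          rw [← Over.comp_left, hb, Over.comp_left, Over.comp_left]
        rw [appLE_congr e2 _ (by rw [← e2]; exact htop.trans (a.left.preimage_mono hO)) w,
          ← appLE_appLE (a.left ≫ p1.left) _ _ ((𝟙 B ^ N).left ⁻¹ᵁ V) ⊤ htop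
            (PullKernel.preimage_le (hfix' ⟨_, hz⟩) V) w, hw ⟨_, hz⟩]
      have : IsLocalRing.closedPoint K ∈ a.left ⁻¹ᵁ (B ⊗ P).left.basicOpen
          (p1.left.appLE _ O le_rfl w - p2.left.appLE _ O hO w) := hxU
      rw [Scheme.preimage_basicOpen] at this
      have h2 : IsLocalRing.closedPoint K ∈ (𝟙_ (Over (Spec (CommRingCat.of K)))).left.basicOpen
          (a.left.appLE O ⊤ htop (p1.left.appLE _ O le_rfl w - p2.left.appLE _ O hO w)) := by
        rw [Scheme.Hom.appLE, CommRingCat.comp_apply, Scheme.basicOpen_res]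
        exact ⟨trivial, this⟩
      rw [key, Scheme.basicOpen_zero] at h2
      exact h2
    let T : Over (Spec (CommRingCat.of K)) := Over.mk (l ≫ B.hom)
    have hl' : l' ≫ B.hom = l ≫ B.hom := by
      rw [← Over.w (𝟙 B ^ N), reassoc_of% e]
    let x : T ⟶ B := Over.homMk l rfl
    let y : T ⟶ B := Over.homMk l' hl'
    have hd : (x⁻¹ * y) ≫ (𝟙 B ^ N) = toUnit T ≫ η[B] := by
      have hxy : x ≫ (𝟙 B ^ N) = y ≫ (𝟙 B ^ N) := Over.OverMorphism.ext e
      rw [MonObj.mul_comp, GrpObj.inv_comp, hxy, inv_mul_cancel, Hom.one_def]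
    let d : T ⟶ P := hsq.lift (x⁻¹ * y) (toUnit T) hd
    have hdi : d ≫ i = x⁻¹ * y := hsq.lift_fst _ _ _
    let Λ : T ⟶ B ⊗ P := lift x d
    have h1 : Λ.left ≫ p1.left = l := by rw [← Over.comp_left, lift_fst]; rfl
    have h2 : Λ.left ≫ p2.left = l' := by
      rw [← Over.comp_left, MonObj.comp_mul, lift_fst, lift_snd_assoc, hdi, mul_inv_cancel_left]
      rfl
    have hW : W ≤ Λ.left ⁻¹ᵁ O := by
      rw [← Scheme.Hom.comp_preimage, h1]
      exact h
    calc l.appLE _ W h w = (Λ.left ≫ p1.left).appLE ((𝟙 B ^ N).left ⁻¹ᵁ V) W hW w := appLE_congr h1.symm _ _ _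
      _ = Λ.left.appLE O W hW (p1.left.appLE _ O le_rfl w) := (appLE_appLE _ _ _ _ _ hW le_rfl w).symm
      _ = Λ.left.appLE O W hW (p2.left.appLE _ O hO w) := by rw [huniv]
      _ = (Λ.left ≫ p2.left).appLE ((𝟙 B ^ N).left ⁻¹ᵁ V) W (hW.trans (Λ.left.preimage_mono hO)) w := appLE_appLE _ _ _ _ _ hW hO w
      _ = l'.appLE _ W h' w := appLE_congr h2 _ _ _
  · show (transl ((1 : G) : 𝟙_ (Over (Spec (CommRingCat.of K))) ⟶ B)).left = 𝟙 B.left
    rw [OneMemClass.coe_one, transl, MonObj.comp_one, _root_.mul_one, Over.id_left]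
  · intro z z'
    show (transl (z.1 * z'.1)).left = (transl z.1).left ≫ (transl z'.1).left
    rw [← Over.comp_left, comp_transl, transl, transl, MonObj.comp_mul, _root_.mul_assoc]

end Groth.Agent.Poincare.TorsionPic
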