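import Groth.Agent.L26.Poincare.Orth
import Groth.Agent.L26.Poincare.TorsionPic
import Groth.Agent.L26.AV.TateBaseChange
import Groth.Agent.L26.AV.PointClosure
import Groth.Agent.L26.AV.Isogeny
import Groth.Agent.L26.AV.Subgroup
import Groth.Agent.L08.Cube.Invariant
import Groth.Agent.L08.DeligneScheme
import Groth.Agent.L18.AmplePull

/-!
# An abelian subvariety and its orthogonal fill the abelian variety
-/

set_option autoImplicit false
set_option linter.style.haveILetI false
set_option linter.unusedSectionVars false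
set_option backward.isDefEq.respectTransparency false

universe u

open CategoryTheory CategoryTheory.Limits MonoidalCategory CartesianMonoidalCategory AlgebraicGeometry
open scoped MonObj

noncomputable section

namespace Groth.Agent.Poincare.Split

open Groth.Agent.AV Orth TateBaseChange

attribute [local instance] Groth.L08.Cube.clMonoid InterPic.picLaw

variable {k : Type u} [Field k] {A B : Over (Spec (CommRingCat.of k))}
  [GrpObj A] [IsCommMonObj A] [IsProper A.hom] [GeometricallyIntegral A.hom]
  [GrpObj B] [IsCommMonObj B] [IsProper B.hom] [GeometricallyIntegral B.hom]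
  (L : A.left.Modules) (hamp : CohB1.IsAmple L) (i : B ⟶ A) [IsMonHom i]

variable (K : Type u) [Field K] [Algebra k K]

/-- The projection pairing of the base change with the product. -/
def sect : bc K B ⟶ (Over.pullback (st (k := k) K)).obj (B ⊗ Isogeny.geomPt k K) :=
  Over.homMk (pullback.lift (𝟙 _) (pullback.snd B.hom (st (k := k) K)) (by
    show 𝟙 _ ≫ (B ⊗ Isogeny.geomPt k K).hom = _
    rw [Category.id_comp, ← Over.w (snd B (Isogeny.geomPt k K))]
    rfl)) (pullback.lift_snd _ _ _)

theorem sect_map_fst {X : Over (Spec (CommRingCat.of k))} (φ : B ⊗ Isogeny.geomPt k K ⟶ X) :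
    (sect (B := B) K ≫ (Over.pullback (st (k := k) K)).map φ).left ≫ pullback.fst X.hom (st (k := k) K) = φ.left := by
  show (pullback.lift (𝟙 _) _ _ ≫ _) ≫ _ = _
  rw [Category.assoc]
  erw [pullback.lift_fst]
  rw [pullback.lift_fst_assoc, Category.id_comp]

theorem map_pow_left (N : ℕ) :
    (𝟙 (bc K B) ^ N).left = ((𝟙 B ^ N) ▷ Isogeny.geomPt k K).left := by
  have h : 𝟙 (bc K B) ^ N = (Over.pullback (st (k := k) K)).map (𝟙 B ^ N) := by
    rw [← CategoryTheory.Functor.map_id]
    exact (map_pow (Functor.homMonoidHom (Over.pullback (st (k := k) K)) (X := B) (M := B)) (𝟙 B) N).symm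
  rw [h]
  apply pullback.hom_ext
  · have h1 : ((Over.pullback (st (k := k) K)).map (𝟙 B ^ N)).left ≫ pullback.fst B.hom (st (k := k) K) =
        pullback.fst B.hom (st (k := k) K) ≫ (𝟙 B ^ N).left := pullback.lift_fst _ _ _
    exact h1.trans (congrArg CommaMorphism.left (whiskerRight_fst (𝟙 B ^ N) (Isogeny.geomPt k K))).symm
  · have h1 : ((Over.pullback (st (k := k) K)).map (𝟙 B ^ N)).left ≫ pullback.snd B.hom (st (k := k) K) =
        pullback.snd B.hom (st (k := k) K) := pullback.lift_snd _ _ _
    exact h1.trans (congrArg CommaMorphism.left (whiskerRight_snd (𝟙 B ^ N) (Isogeny.geomPt k K))).symm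

variable [IsAlgClosed K] [IsClosedImmersion i.left]

include hamp in
/-- Only finitely many points of the subvariety are orthogonal to it. -/
theorem finite_orth_points :
    Set.Finite {b : Isogeny.geomPt k K ⟶ B | pair L hamp.1 i (b ≫ i) = 0} := by
  let π : (bc K B).left ⟶ B.left := pullback.fst B.hom (st (k := k) K)
  haveI : IsAffineHom (π ≫ i.left) := by
    haveI : IsAffineHom π := MorphismProperty.pullback_fst _ _ inferInstance
    infer_instance
  let M := (Scheme.Modules.pullback (π ≫ i.left)).obj L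
  have hM : CohB1.IsAmple M := Groth.L18.Ample.isAmple_pullback_of_isAffineHom _ hamp
  refine Set.Finite.subset ((Groth.L08.Cube.finite_fixed_of_isAmple M hM).preimage
    (ptsEquiv K B).injective.injOn) fun b hb => ?_
  show Groth.L08.Cube.pc M (Groth.L08.Cube.trK (ptsEquiv K B b)) = PicF.cl M
  let T := Isogeny.geomPt k K
  let φ : B ⊗ T ⟶ B := fst B T * (snd B T ≫ b)
  have htr : (Groth.L08.Cube.trK (ptsEquiv K B b)).left ≫ π = φ.left := by
    have e : sect K ≫ (Over.pullback (st (k := k) K)).map φ = Groth.L08.Cube.trK (ptsEquiv K B b) := by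
      show sect K ≫ Functor.homMonoidHom (Over.pullback (st (k := k) K)) (fst B T * (snd B T ≫ b)) = _
      rw [map_mul, MonObj.comp_mul]
      show (sect K ≫ (Over.pullback (st (k := k) K)).map (fst B T)) *
        (sect K ≫ (Over.pullback (st (k := k) K)).map (snd B T ≫ b)) = _
      have e1 : sect K ≫ (Over.pullback (st (k := k) K)).map (fst B T) = 𝟙 (bc K B) := by
        refine Over.OverMorphism.ext (pullback.hom_ext ((sect_map_fst K _).trans (Category.id_comp _).symm) ?_)
        exact (Over.w (sect K ≫ (Over.pullback (st (k := k) K)).map (fst B T))).trans (Category.id_comp _).symm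
      have e2 : sect K ≫ (Over.pullback (st (k := k) K)).map (snd B T) = toUnit (bc K B) ≫ diag K := by
        refine Over.OverMorphism.ext (pullback.hom_ext ((sect_map_fst K _).trans ?_) ?_)
        · show (snd B T).left = ((toUnit (bc K B)).left ≫ pullback.lift (𝟙 _) (𝟙 _) _) ≫ _
          rw [Category.assoc]
          erw [pullback.lift_fst]
          rw [Category.comp_id]
          rfl
        · exact (Over.w (sect K ≫ (Over.pullback (st (k := k) K)).map (snd B T))).trans (Over.w (toUnit (bc K B) ≫ diag K)).symm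
      rw [Functor.map_comp, e1, ← Category.assoc, e2, Groth.L08.Cube.trK, Category.assoc]
      rfl
    rw [← e]
    exact sect_map_fst K φ
  have hcl : Groth.L08.Cube.pc M (Groth.L08.Cube.trK (ptsEquiv K B b)) = Groth.L08.Cube.pc L (φ ≫ i) := by
    show PicF.pullCl (Groth.L08.Cube.trK (ptsEquiv K B b)).left (PicF.pullCl (π ≫ i.left) (PicF.cl L)) =
      PicF.pullCl (φ ≫ i).left (PicF.cl L)
    rw [← PicLoc.pullCl_comp, ← Category.assoc, htr, Over.comp_left]
  rw [hcl, show φ ≫ i = (fst B T ≫ i) * (snd B T ≫ b ≫ i) by rw [MonObj.mul_comp, Category.assoc]]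
  have h1 : DegreeForm.F L hamp.1 ((fst B T ≫ i) * (snd B T ≫ b ≫ i)) =
      DegreeForm.F L hamp.1 (fst B T ≫ i) + DegreeForm.F L hamp.1 (snd B T ≫ b ≫ i) := by
    have : DegreeForm.F L hamp.1 ((fst B T ≫ i) * (snd B T ≫ b ≫ i)) - DegreeForm.F L hamp.1 (fst B T ≫ i)
      - DegreeForm.F L hamp.1 (snd B T ≫ b ≫ i) = 0 := hb
    rwa [sub_sub, sub_eq_zero] at this
  refine (congrArg (fun z => (Additive.toMul z).1) h1).trans ?_
  show Groth.L08.Cube.pc L (fst B T ≫ i) * Groth.L08.Cube.pc L (snd B T ≫ b ≫ i) = PicF.cl M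
  rw [← Groth.L08.Cube.pullCl_pc L (snd B T) (b ≫ i)]
  haveI : Subsingleton T.left := inferInstanceAs (Subsingleton (PrimeSpectrum K))
  rw [show Groth.L08.Cube.pc L (b ≫ i) = 1 from Groth.Agent.AbDualLib.eq_oneCl_of_subsingleton
    (Groth.L08.Cube.isInvertibleCl_pc L hamp.1 _), Groth.L08.Cube.pullCl_one, _root_.mul_one]
  rfl

variable {K}

variable (hL : PicF.IsInvertible L)
  (hfin : Set.Finite {b : Isogeny.geomPt k (AlgebraicClosure k) ⟶ B | pair L hL i (b ≫ i) = 0})

include hfin in
/-- The intersection with the orthogonal is finite. -/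
theorem isFinite_inter_of_finite {G : Over (Spec (CommRingCat.of k))} (j : G ⟶ A) [IsClosedImmersion j.left]
    (hj : pair L hL i j = 0) : IsFinite (pullback i j).hom := by
  let K := AlgebraicClosure k
  let H := pullback i j
  haveI : Mono j := Groth.L08.mono_of_closedImmersion j
  haveI : IsClosedImmersion (pullback.fst i j).left :=
    MorphismProperty.of_isPullback ((IsPullback.of_hasPullback i j).map (Over.forget _)).flip ‹IsClosedImmersion j.left›
  haveI : IsProper H.hom := by rw [← Over.w (pullback.fst i j)]; infer_instance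
  have hfin : Finite (Isogeny.geomPt k K ⟶ H) := by
    haveI := hfin.to_subtype
    refine Finite.of_injective (fun P => (⟨P ≫ pullback.fst i j, ?_⟩ :
      {b : Isogeny.geomPt k K ⟶ B | pair L hL i (b ≫ i) = 0})) fun P Q h => ?_
    · show pair L hL i ((P ≫ pullback.fst i j) ≫ i) = 0
      rw [Category.assoc, pullback.condition, ← Category.assoc, ← pb_pair, hj, map_zero]
    · exact (cancel_mono (pullback.fst i j)).1 (congrArg Subtype.val h)
  haveI := hfin
  haveI : JacobsonSpace H.left := LocallyOfFiniteType.jacobsonSpace H.hom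
  have hcl : (closedPoints H.left).Finite := by
    refine (Set.finite_range fun P : Isogeny.geomPt k K ⟶ H => P.left (IsLocalRing.closedPoint K)).subset ?_
    intro x hx
    obtain ⟨r, P, hP⟩ := Isogeny.exists_point_closed K x hx
    refine ⟨P, ?_⟩
    show P.left (IsLocalRing.closedPoint K) = x
    rw [hP, Scheme.Hom.comp_apply]
    exact H.left.fromSpecResidueField_apply x _
  have huniv : (Set.univ : Set H.left).Finite := by
    have h1 : IsClosed (closedPoints H.left) := by
      rw [← Set.biUnion_of_singleton (closedPoints H.left)]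
      exact hcl.isClosed_biUnion fun x hx => hx
    rwa [← h1.closure_eq, closure_closedPoints] at hcl
  haveI : LocallyQuasiFinite H.hom :=
    LocallyQuasiFinite.of_finite_preimage_singleton _ fun _ => huniv.subset (Set.subset_univ _)
  exact IsFinite.of_isProper_of_locallyQuasiFinite _

include hfin in
/-- The subvariety and its orthogonal generate. -/
theorem surjective_sum_of_finite {G : Over (Spec (CommRingCat.of k))} [GrpObj G] (j : G ⟶ A) [IsMonHom j]
    [IsClosedImmersion j.left]
    (hG : ∀ (T : Over (Spec (CommRingCat.of k))) [IsLocallyNoetherian T.left] (y : T ⟶ A),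
      pair L hL i y = 0 → ∃ z : T ⟶ G, z ≫ j = y) :
    Surjective ((fst B G ≫ i) * (snd B G ≫ j)).left := by
  classical
  let K := AlgebraicClosure k
  let T := Isogeny.geomPt k K
  let m := (fst B G ≫ i) * (snd B G ≫ j)
  let g := (Groth.L08.GrpDim.exists_dim (bc K B)).choose
  have hg : topologicalKrullDim (bc K B).left = g := (Groth.L08.GrpDim.exists_dim (bc K B)).choose_spec.2
  have hH : Set.Finite {b : T ⟶ B | pair L hL i (b ≫ i) = 0} := hfin
  obtain ⟨l, hl2, hlk⟩ : ∃ l : ℕ, l.Prime ∧ (l : k) ≠ 0 := by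
    by_cases h2 : ((2 : ℕ) : k) = 0
    · refine ⟨3, Nat.prime_three, fun h3 => one_ne_zero (α := k) ?_⟩
      push_cast at h2 h3
      linear_combination h3 - h2
    · exact ⟨2, Nat.prime_two, h2⟩
  haveI : Fact l.Prime := ⟨hl2⟩
  let h := Nat.card {b : T ⟶ B | pair L hL i (b ≫ i) = 0}
  -- every torsion point lies in the image
  have hkey : ∀ (n : ℕ) (a : T ⟶ A), a ^ (l ^ n) = 1 →
      ∃ (b : T ⟶ B) (z : T ⟶ G), a ^ h.factorial = (b ≫ i) * (z ≫ j) := by
    intro n a ha
    let N := l ^ n
    have hNk : (N : K) ≠ 0 := by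
      rw [← map_natCast (algebraMap k K), Nat.cast_pow]
      exact (map_ne_zero _).2 (pow_ne_zero _ hlk)
    have hN1 : 1 ≤ N := Nat.one_le_pow _ _ hl2.pos
    -- the two images
    let ψ : (T ⟶ A) →* Multiplicative (Additive (PicLoc.PicSet (B ⊗ T).left)) :=
      MonoidHom.mk' (fun y => Multiplicative.ofAdd (pair L hL i y)) fun y y' => by
        rw [pair_mul, ofAdd_add]
    let SA := AbDual.torsPts A N T
    let SB := AbDual.torsPts B N T
    haveI : Finite SA := by
      haveI := TorsPts.finite_torsPts (A := bc K A) hN1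
      exact Finite.of_injective (fun y : SA => (⟨ptsEquiv K A y.1, by
        rw [AbDual.mem_torsPts, ← map_pow, (AbDual.mem_torsPts A y.1).1 y.2, map_one]⟩ : AbDual.torsPts (bc K A) N (TorsPts.ptk K)))
        fun y y' e => Subtype.ext ((ptsEquiv K A).injective (congrArg Subtype.val e))
    let ψA := ψ.comp SA.subtype
    let toA : SB →* SA := MonoidHom.mk' (fun b => ⟨b.1 ≫ i, by
      rw [AbDual.mem_torsPts, ← MonObj.pow_comp, (AbDual.mem_torsPts B b.1).1 b.2, MonObj.one_comp]⟩)
      fun b b' => Subtype.ext (MonObj.mul_comp _ _ _)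
    let R := ψA.range
    let S := (ψA.comp toA).range
    have hS : S ≤ R := by rintro _ ⟨b, rfl⟩; exact ⟨toA b, rfl⟩
    haveI : Finite R := Finite.of_surjective ψA.rangeRestrict ψA.rangeRestrict_surjective
    -- the upper bound
    have hR : Nat.card R ≤ N ^ (2 * g) := by
      haveI := Fintype.ofFinite R
      rw [Nat.card_eq_fintype_card]
      let val : R → PicF.Cl (bc K B).left := fun r => (Multiplicative.toAdd r.1).toMul.1
      have hval : Function.Injective val := fun r r' e =>
        Subtype.ext (Multiplicative.toAdd.injective (Additive.toMul.injective (Subtype.ext e)))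
      refine le_trans (le_of_eq ?_) (TorsionPic.card_le hg N hNk (Finset.univ.image val) ?_)
      · rw [Finset.card_image_of_injective _ hval, Finset.card_univ]
      intro c hc
      obtain ⟨r, -, rfl⟩ := Finset.mem_image.1 hc
      obtain ⟨y, hy⟩ := r.2
      refine ⟨(Multiplicative.toAdd r.1).toMul.2, ?_⟩
      have h0 : pb ((𝟙 B ^ N) ▷ T) (pair L hL i y.1) = 0 := by
        unfold Orth.pair
        rw [pb_bil, whiskerRight_fst_assoc, whiskerRight_snd_assoc, MonObj.pow_comp, Category.id_comp,
          MonObj.comp_pow, bil_pow_left, ← bil_pow_right, ← MonObj.comp_pow,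
          (AbDual.mem_torsPts A y.1).1 y.2, MonObj.comp_one, bil_one_right]
      show PicF.pullCl (𝟙 (bc K B) ^ N).left (Multiplicative.toAdd r.1).toMul.1 = _
      rw [map_pow_left, ← hy]
      exact congrArg (fun z => (Additive.toMul z).1) h0
    -- the lower bound
    have hlow : N ^ (2 * g) ≤ Nat.card S * h := by
      have hcard : Nat.card SB = N ^ (2 * g) := by
        rw [← TorsCard.card_torsPts (A := bc K B) hg N hNk]
        exact Nat.card_congr
          { toFun := fun y => ⟨ptsEquiv K B y.1, by rw [AbDual.mem_torsPts, ← map_pow, (AbDual.mem_torsPts B y.1).1 y.2, map_one]⟩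
            invFun := fun y => ⟨(ptsEquiv K B).symm y.1, by rw [AbDual.mem_torsPts, ← map_pow, (AbDual.mem_torsPts _ y.1).1 y.2, map_one]⟩
            left_inv := fun y => Subtype.ext ((ptsEquiv K B).symm_apply_apply _)
            right_inv := fun y => Subtype.ext ((ptsEquiv K B).apply_symm_apply _) }
      rw [← hcard, ← (ψA.comp toA).ker.index_mul_card, Subgroup.index_ker]
      refine Nat.mul_le_mul_left _ ?_
      haveI := hH.to_subtype
      exact Nat.card_le_card_of_injective (fun b : (ψA.comp toA).ker => (⟨b.1.1, Multiplicative.ofAdd.injective b.2⟩ :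
        {b : T ⟶ B | pair L hL i (b ≫ i) = 0})) fun b b' e => Subtype.ext (Subtype.ext (congrArg Subtype.val e :))
    let S' := S.subgroupOf R
    haveI : Finite (R ⧸ S') := inferInstance
    haveI : Finite S := Finite.of_injective (Subgroup.inclusion hS) (Subgroup.inclusion_injective hS)
    have hidx : S'.index ≤ h := by
      have h1 := Subgroup.card_mul_index S'
      rw [Nat.card_congr (Subgroup.subgroupOfEquivOfLe hS).toEquiv] at h1
      exact Nat.le_of_mul_le_mul_left (h1.le.trans (hR.trans hlow)) Nat.card_pos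
    obtain ⟨y, hy⟩ : ∃ y : SA, y.1 = a := ⟨⟨a, ha⟩, rfl⟩
    have hmem : (⟨ψA y, ⟨y, rfl⟩⟩ : R) ^ h.factorial ∈ S' := by
      obtain ⟨d, hd⟩ := Nat.dvd_factorial (Nat.pos_of_ne_zero Subgroup.FiniteIndex.index_ne_zero) hidx
      rw [hd, pow_mul]
      exact S'.pow_mem (Subgroup.pow_index_mem _ _) _
    obtain ⟨b, hb⟩ := hmem
    have hb' : pair L hL i (b.1 ≫ i) = pair L hL i (a ^ h.factorial) := by
      refine Multiplicative.ofAdd.injective ?_
      show ψ (b.1 ≫ i) = ψ (a ^ h.factorial)
      rw [map_pow, ← hy]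
      exact hb
    haveI : IsLocallyNoetherian T.left := inferInstanceAs (IsLocallyNoetherian (Spec (CommRingCat.of K)))
    obtain ⟨z, hz⟩ := hG T ((b.1 ≫ i)⁻¹ * a ^ h.factorial)
      (by rw [pair_mul, pair_inv, hb', neg_add_cancel])
    exact ⟨b.1, z, by rw [hz, mul_inv_cancel_left]⟩
  -- density of the torsion
  let H₀ : Subgroup (TorsPts.ptk K ⟶ bc K A) :=
    { carrier := {a | ∃ n : ℕ, a ^ (l ^ n) = 1}
      one_mem' := ⟨0, one_pow _⟩
      mul_mem' := by
        rintro a a' ⟨n, hn⟩ ⟨n', hn'⟩
        exact ⟨n + n', by rw [_root_.mul_pow, pow_add, pow_mul, hn, one_pow, _root_.one_mul, _root_.mul_comm (l ^ n),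
          pow_mul, hn', one_pow]⟩
      inv_mem' := by
        rintro a ⟨n, hn⟩
        exact ⟨n, by rw [inv_pow, hn, inv_one]⟩ }
  obtain ⟨C, gC, c, hcm, hcc, hcr, hcmem⟩ := PointClosure.exists_closureSubgroup (k := K) (A := bc K A) H₀
  letI := gC
  haveI := hcm
  haveI := hcc
  have hlK : (l : K) ≠ 0 := by rw [← map_natCast (algebraMap k K)]; exact (map_ne_zero _).2 hlk
  haveI : IsIso c := Subgroup.isIso_of_torsion_factors c hlK fun n a ha => hcmem a ⟨n, ha⟩
  haveI : IsIso c.left := inferInstanceAs (IsIso ((Over.forget _).map c))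
  haveI : IsProper G.hom := by rw [← Over.w j]; infer_instance
  haveI : IsProper (fst B G).left :=
    MorphismProperty.of_isPullback (Groth.L08.Cube.isPullback_prod B G).flip ‹IsProper G.hom›
  haveI : IsProper (B ⊗ G).hom := by rw [← Over.w (fst B G)]; infer_instance
  haveI : IsProper (m.left ≫ A.hom) := by rw [Over.w]; infer_instance
  haveI : IsProper m.left := IsProper.of_comp m.left A.hom
  let π : (bc K A).left ⟶ A.left := pullback.fst A.hom (st (k := k) K)
  have hsub : Set.range c.left ⊆ π ⁻¹' Set.range m.left := by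
    rw [hcr]
    refine closure_minimal ?_ (m.left.isClosedMap.isClosed_range.preimage π.continuous)
    rintro _ ⟨a, ⟨n, ha⟩, rfl⟩
    obtain ⟨u, c', hcop, hfac⟩ : ∃ u c' : ℕ, Nat.Coprime u l ∧ h.factorial = l ^ c' * u := by
      refine ⟨h.factorial / l ^ h.factorial.factorization l, h.factorial.factorization l, ?_,
        (Nat.ordProj_mul_ordCompl_eq_self _ _).symm⟩
      exact (Nat.coprime_ordCompl hl2 h.factorial_ne_zero).symm
    obtain ⟨a₁, ha₁⟩ := Isogeny.exists_pow_eq (A := A) (K := K) (l ^ c')
      (by rw [Nat.cast_pow]; exact pow_ne_zero _ hlk) ((ptsEquiv K A).symm a)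
    have ha₁n : a₁ ^ (l ^ (c' + n)) = 1 := by
      rw [pow_add, pow_mul, ha₁, ← map_pow, ha, map_one]
    obtain ⟨v, hv⟩ : ∃ v : ℕ, u * v ≡ 1 [MOD l ^ (c' + n)] := by
      rcases Nat.eq_zero_or_pos (c' + n) with h0 | hpos
      · exact ⟨0, by rw [h0, pow_zero]; exact Nat.modEq_one⟩
      · have hlt : 1 < l ^ (c' + n) := Nat.one_lt_pow hpos.ne' hl2.one_lt
        obtain ⟨v, -, hv⟩ := Nat.exists_mul_mod_eq_one_of_coprime (hcop.pow_right (c' + n)) hlt
        exact ⟨v, by rw [Nat.ModEq, hv, Nat.one_mod_eq_one.2 hlt.ne']⟩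
    have hkey2 := hkey (c' + n) (a₁ ^ v) (by rw [← pow_mul, _root_.mul_comm, pow_mul, ha₁n, one_pow])
    obtain ⟨b, z, hbz⟩ := hkey2
    have hsym : (a₁ ^ v) ^ h.factorial = (ptsEquiv K A).symm a := by
      rw [← ha₁, hfac, ← pow_mul, show v * (l ^ c' * u) = u * v * l ^ c' by ring, pow_mul, pow_mul]
      congr 1
      rw [← pow_mul]
      conv_rhs => rw [← pow_one a₁]
      exact pow_eq_pow_of_modEq hv ha₁n
    refine ⟨(lift b z : T ⟶ B ⊗ G).left (IsLocalRing.closedPoint K), ?_⟩
    rw [← Scheme.Hom.comp_apply, ← Over.comp_left, MonObj.comp_mul, lift_fst_assoc, lift_snd_assoc, ← hbz, hsym]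
    rfl
  refine ⟨fun x => ?_⟩
  haveI : Surjective (st (k := k) K) :=
    ⟨fun x => ⟨IsLocalRing.closedPoint K, Subsingleton.elim (α := PrimeSpectrum k) _ _⟩⟩
  haveI : Surjective π := MorphismProperty.pullback_fst _ _ ‹Surjective (st (k := k) K)›
  obtain ⟨y, rfl⟩ := π.surjective x
  exact hsub (c.left.surjective y)

include hamp in
/-- The intersection with the orthogonal is finite. -/
theorem isFinite_inter {G : Over (Spec (CommRingCat.of k))} (j : G ⟶ A) [IsClosedImmersion j.left]
    (hj : pair L hamp.1 i j = 0) : IsFinite (pullback i j).hom :=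
  isFinite_inter_of_finite L i hamp.1 (finite_orth_points L hamp i _) j hj

include hamp in
/-- The subvariety and its orthogonal generate. -/
theorem surjective_sum {G : Over (Spec (CommRingCat.of k))} [GrpObj G] (j : G ⟶ A) [IsMonHom j]
    [IsClosedImmersion j.left]
    (hG : ∀ (T : Over (Spec (CommRingCat.of k))) [IsLocallyNoetherian T.left] (y : T ⟶ A),
      pair L hamp.1 i y = 0 → ∃ z : T ⟶ G, z ≫ j = y) :
    Surjective ((fst B G ≫ i) * (snd B G ≫ j)).left :=
  surjective_sum_of_finite L i hamp.1 (finite_orth_points L hamp i _) j hG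

end Groth.Agent.Poincare.Split
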